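import Cfsg.Agent.Lib.Helper8.ReeAbs2

/-!
# Groups with small Ree normal form are 2-generated
-/

set_option autoImplicit false

namespace Cfsg.Agent.Lib.Helper8

namespace ReeData

variable {G : Type*} [Group G] {K : Type*} [Field K] (D : ReeData G K)

theorem U_cube (t u v : K) : D.U t u v ^ 3 = D.U 0 0 (-(t ^ 2 * D.ψ t)) := by
  have h3 := D.three
  rw [pow_three, D.U_mul, D.U_mul]
  simp only [map_add]
  congr 1
  · linear_combination t * h3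
  · linear_combination (u - t * D.ψ t) * h3
  · linear_combination (v - u * t + t ^ 2 * D.ψ t) * h3

theorem U0_mul (u v u' v' : K) : D.U 0 u v * D.U 0 u' v' = D.U 0 (u + u') (v + v') := by
  rw [D.U_mul]
  congr 1 <;> simp

theorem U_mul_U0 (t a b u' v' : K) : D.U t a b * D.U 0 u' v' = D.U t (a + u') (b + v') := by
  rw [D.U_mul]
  congr 1 <;> simp

/-- a subgroup containing the torus and an element of `U` outside `U'` contains `U`. -/
theorem Us_le_of_torus {M : Subgroup G} (hH : ∀ z, D.H z ∈ M) {t₁ u₁ v₁ : K} (ht₁ : t₁ ≠ 0)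
    (hx : D.U t₁ u₁ v₁ ∈ M) : D.Us ≤ M := by
  have h3 := D.three
  have h1 : ∀ t : K, t ≠ 0 → ∃ u v, D.U t u v ∈ M := by
    intro t ht
    have := M.mul_mem (M.mul_mem (hH (Units.mk0 (t / t₁) (div_ne_zero ht ht₁))) hx)
      (M.inv_mem (hH (Units.mk0 (t / t₁) (div_ne_zero ht ht₁))))
    rw [D.H_conj, Units.val_mk0, div_mul_cancel₀ _ ht₁] at this
    exact ⟨_, _, this⟩
  have h2 : ∀ v : K, D.U 0 0 v ∈ M := by
    intro v
    by_cases hv : v = 0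
    · subst hv; rw [D.U_zero]; exact M.one_mem
    · obtain ⟨a, b, hab⟩ := h1 (D.ζ (Units.mk0 (-v) (neg_ne_zero.2 hv)) : Kˣ) (Units.ne_zero _)
      have := M.pow_mem hab 3
      rw [D.U_cube, D.w_ζ, Units.val_mk0, neg_neg] at this
      exact this
  obtain ⟨a, b, hab⟩ := h1 D.t₀ D.t₀_ne_zero
  obtain ⟨c, d, hcd⟩ := h1 1 one_ne_zero
  have h4 : ∃ v, D.U 0 (D.ψ D.t₀ - D.t₀) v ∈ M := by
    have e : ∃ v, D.U D.t₀ a b * D.U 1 c d = D.U 0 (D.ψ D.t₀ - D.t₀) v * (D.U 1 c d * D.U D.t₀ a b) := by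
      rw [D.U_mul, D.U_mul]
      refine ⟨(b + d - a * 1 + D.t₀ * 1 * D.ψ 1 - D.t₀ ^ 2 * D.ψ 1) -
        (d + b - c * D.t₀ + 1 * D.t₀ * D.ψ D.t₀ - 1 ^ 2 * D.ψ D.t₀) + (D.ψ D.t₀ - D.t₀) * (1 + D.t₀), ?_⟩
      rw [D.U_mul]
      congr 1
      · ring
      · rw [map_one]; ring
      · ring
    obtain ⟨v, hv⟩ := e
    refine ⟨v, ?_⟩
    have : D.U 0 (D.ψ D.t₀ - D.t₀) v = (D.U D.t₀ a b * D.U 1 c d) * (D.U 1 c d * D.U D.t₀ a b)⁻¹ := by
      rw [hv]; group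
    rw [this]
    exact M.mul_mem (M.mul_mem hab hcd) (M.inv_mem (M.mul_mem hcd hab))
  set u₀ := D.ψ D.t₀ - D.t₀ with hu₀
  have hu₀0 : u₀ ≠ 0 := sub_ne_zero.2 D.ht₀
  have hsq : ∀ x : K, ∃ v, D.U 0 (x ^ 2 * u₀) v ∈ M := by
    intro x
    by_cases hx0 : x = 0
    · subst hx0
      exact ⟨0, by rw [zero_pow (by norm_num), zero_mul]; exact h2 0⟩
    · obtain ⟨v, hv⟩ := h4
      have hp : D.ψ x ≠ 0 := (map_ne_zero D.ψ).2 hx0
      have := M.mul_mem (M.mul_mem (hH (Units.mk0 (D.ψ x / x) (div_ne_zero hp hx0))) hv)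
        (M.inv_mem (hH (Units.mk0 (D.ψ x / x) (div_ne_zero hp hx0))))
      rw [D.H_conj, Units.val_mk0, mul_zero] at this
      have e : D.ψ x / x * D.ψ (D.ψ x / x) = x ^ 2 := by
        rw [map_div₀, D.ψψ]
        field_simp
      rw [e] at this
      exact ⟨_, this⟩
  have h5 : ∀ u : K, ∃ v, D.U 0 u v ∈ M := by
    intro u
    obtain ⟨v1, hv1⟩ := hsq (u / u₀)
    obtain ⟨v2, hv2⟩ := hsq 1
    obtain ⟨v3, hv3⟩ := hsq (u / u₀ + 1)
    have := M.mul_mem (M.mul_mem hv1 hv2) (M.inv_mem hv3)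
    rw [D.U_inv, neg_zero, D.U0_mul, D.U0_mul] at this
    have e : u = u / u₀ * u₀ := by field_simp
    have e2 : (u / u₀) ^ 2 * u₀ + 1 ^ 2 * u₀ + (-((u / u₀ + 1) ^ 2 * u₀) - 0 * D.ψ 0) = u := by
      linear_combination -e - (u / u₀ * u₀) * h3
    rw [e2] at this
    exact ⟨_, this⟩
  rintro _ ⟨t, u, v, rfl⟩
  have h6 : ∃ a b, D.U t a b ∈ M := by
    by_cases ht : t = 0
    · subst ht; exact ⟨0, 0, h2 0⟩
    · exact h1 t ht
  obtain ⟨a', b', hab'⟩ := h6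
  obtain ⟨v', hv'⟩ := h5 (u - a')
  have := M.mul_mem (M.mul_mem hab' hv') (h2 (v - b' - v'))
  rw [D.U_mul_U0, D.U_mul_U0] at this
  convert this using 2 <;> ring

include D in
theorem two_generated [Finite G] : ∃ a b : G, Subgroup.closure ({a, b} : Set G) = ⊤ := by
  have := D.finite_K
  obtain ⟨k, hk⟩ := IsCyclic.exists_generator (α := Kˣ)
  refine ⟨D.H k, D.U 1 0 0 * D.n, ?_⟩
  set M := Subgroup.closure ({D.H k, D.U 1 0 0 * D.n} : Set G) with hM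
  have hd : D.H k ∈ M := Subgroup.subset_closure (by simp)
  have hg : D.U 1 0 0 * D.n ∈ M := Subgroup.subset_closure (by simp)
  have hH : ∀ z, D.H z ∈ M := by
    intro z
    obtain ⟨j, rfl⟩ := Subgroup.mem_zpowers_iff.1 (hk z)
    rw [map_zpow]
    exact M.zpow_mem hd j
  have hk1 : k ≠ 1 := by
    rintro rfl
    have h1 := hk D.z₀
    rw [Subgroup.zpowers_one_eq_bot, Subgroup.mem_bot] at h1
    apply D.z₀_sq
    rw [h1]; simp
  obtain ⟨k', hk'⟩ := D.n_H k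
  have hk'1 : k' ≠ 1 := by
    rintro rfl
    apply hk1
    apply D.H_inj
    rw [map_one] at hk' ⊢
    calc D.H k = D.n⁻¹ * (D.n * D.H k * D.n⁻¹) * D.n := by group
      _ = 1 := by rw [hk']; group
  have hx : (D.U 1 0 0 * D.n) * D.H k * (D.U 1 0 0 * D.n)⁻¹ * (D.H k')⁻¹ ∈ M :=
    M.mul_mem (M.mul_mem (M.mul_mem hg hd) (M.inv_mem hg)) (M.inv_mem (hH k'))
  have e : (D.U 1 0 0 * D.n) * D.H k * (D.U 1 0 0 * D.n)⁻¹ * (D.H k')⁻¹ =
      D.U 1 0 0 * (D.H k' * (D.U 1 0 0)⁻¹ * (D.H k')⁻¹) := by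
    rw [← hk']; group
  rw [e, D.U_inv, D.H_conj, D.U_mul] at hx
  have hne : (1 : K) + (k' : K) * (-1) ≠ 0 := by
    intro h
    apply hk'1
    apply Units.ext
    rw [Units.val_one]
    linear_combination -h
  have hU := D.Us_le_of_torus hH hne hx
  have hn : D.n ∈ M := by
    have : D.n = (D.U 1 0 0)⁻¹ * (D.U 1 0 0 * D.n) := by group
    rw [this]
    exact M.mul_mem (M.inv_mem (hU (D.U_mem _ _ _))) hg
  rw [eq_top_iff]
  intro g _
  rcases D.cover' g with ⟨a, ha, z, rfl⟩ | ⟨a, ha, z, b, hb, rfl⟩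
  · exact M.mul_mem (hU ha) (hH z)
  · exact M.mul_mem (M.mul_mem (M.mul_mem (hU ha) (hH z)) hn) (hU hb)

end ReeData

end Cfsg.Agent.Lib.Helper8
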