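import Mathlib
import Cfsg.Prelude.Def_KGroupFacts

/-!
# Abstract description of the small Ree groups by their `(B, N)`-normal form

`ReeData G K` records a parametrisation of `U`, `H`, `n₀` in a group `G` with the multiplication law of
`U`, the torus action and the sharp Bruhat decomposition.
-/

set_option autoImplicit false

namespace Cfsg.Agent.Lib.Helper8

/-- a group with the `(B,N)`-normal form of a small Ree group over `K`. -/
structure ReeData (G : Type*) [Group G] (K : Type*) [Field K] where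
  ψ : K →+* K
  U : K → K → K → G
  H : Kˣ →* G
  n : G
  ψψ : ∀ x, ψ (ψ x) = x ^ 3
  three : (3 : K) = 0
  t₀ : K
  ht₀ : ψ t₀ ≠ t₀
  U_mul : ∀ t u v t' u' v', U t u v * U t' u' v' =
    U (t + t') (u + u' - t * ψ t') (v + v' - u * t' + t * t' * ψ t' - t ^ 2 * ψ t')
  U_inj : ∀ t u v t' u' v', U t u v = U t' u' v' → t = t' ∧ u = u' ∧ v = v'
  H_conj : ∀ (z : Kˣ) t u v, H z * U t u v * (H z)⁻¹ =
    U (z * t) (z * ψ z * u) ((z : K) ^ 2 * ψ z * v)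
  n_H : ∀ z, ∃ z', n * H z * n⁻¹ = H z'
  n_H' : ∀ z, ∃ z', n⁻¹ * H z * n = H z'
  cover : ∀ g, (∃ t u v z, g = U t u v * H z) ∨
    ∃ t u v z t' u' v', g = U t u v * H z * n * U t' u' v'
  uniq : ∀ t u v z t' u' v' a b c w a' b' c',
    U t u v * H z * n * U t' u' v' = U a b c * H w * n * U a' b' c' →
      U t u v = U a b c ∧ z = w ∧ U t' u' v' = U a' b' c'
  uniqB : ∀ t u v z a b c w, U t u v * H z = U a b c * H w → U t u v = U a b c ∧ z = w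
  disj : ∀ t u v z a b c w a' b' c', U t u v * H z ≠ U a b c * H w * n * U a' b' c'

namespace ReeData

variable {G : Type*} [Group G] {K : Type*} [Field K] (D : ReeData G K)

theorem U_zero : D.U 0 0 0 = 1 := by
  have h := D.U_mul 0 0 0 0 0 0
  simp only [add_zero, map_zero, mul_zero, sub_zero] at h
  exact mul_eq_left.1 h

theorem U_inv (t u v : K) : (D.U t u v)⁻¹ = D.U (-t) (-u - t * D.ψ t) (-v - u * t - 2 * t ^ 2 * D.ψ t) := by
  rw [inv_eq_iff_mul_eq_one, D.U_mul, ← D.U_zero]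
  congr 1
  · ring
  · rw [map_neg]; ring
  · rw [map_neg]; ring

/-- the subgroup `U`. -/
def Us : Subgroup G where
  carrier := {g | ∃ t u v, g = D.U t u v}
  mul_mem' := by
    rintro _ _ ⟨t, u, v, rfl⟩ ⟨t', u', v', rfl⟩
    exact ⟨_, _, _, D.U_mul _ _ _ _ _ _⟩
  one_mem' := ⟨0, 0, 0, D.U_zero.symm⟩
  inv_mem' := by
    rintro _ ⟨t, u, v, rfl⟩
    exact ⟨_, _, _, D.U_inv _ _ _⟩

theorem mem_Us {g : G} : g ∈ D.Us ↔ ∃ t u v, g = D.U t u v := Iff.rfl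

theorem U_mem (t u v : K) : D.U t u v ∈ D.Us := ⟨t, u, v, rfl⟩

theorem H_conj_mem (z : Kˣ) {x : G} (hx : x ∈ D.Us) : D.H z * x * (D.H z)⁻¹ ∈ D.Us := by
  obtain ⟨t, u, v, rfl⟩ := hx
  exact ⟨_, _, _, D.H_conj z t u v⟩

theorem H_conj_mem' (z : Kˣ) {x : G} (hx : x ∈ D.Us) : (D.H z)⁻¹ * x * D.H z ∈ D.Us := by
  have := D.H_conj_mem z⁻¹ hx
  rwa [map_inv, inv_inv] at this

theorem uniq' {x y x' y' : G} {z w : Kˣ} (hx : x ∈ D.Us) (hy : y ∈ D.Us) (hx' : x' ∈ D.Us)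
    (hy' : y' ∈ D.Us) (h : x * D.H z * D.n * y = x' * D.H w * D.n * y') : x = x' ∧ z = w ∧ y = y' := by
  obtain ⟨t, u, v, rfl⟩ := hx
  obtain ⟨t', u', v', rfl⟩ := hy
  obtain ⟨a, b, c, rfl⟩ := hx'
  obtain ⟨a', b', c', rfl⟩ := hy'
  exact D.uniq _ _ _ _ _ _ _ _ _ _ _ _ _ _ h

theorem uniqB' {x x' : G} {z w : Kˣ} (hx : x ∈ D.Us) (hx' : x' ∈ D.Us)
    (h : x * D.H z = x' * D.H w) : x = x' ∧ z = w := by
  obtain ⟨t, u, v, rfl⟩ := hx
  obtain ⟨a, b, c, rfl⟩ := hx'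
  exact D.uniqB _ _ _ _ _ _ _ _ h

theorem disj' {x x' y' : G} {z w : Kˣ} (hx : x ∈ D.Us) (hx' : x' ∈ D.Us) (hy' : y' ∈ D.Us) :
    x * D.H z ≠ x' * D.H w * D.n * y' := by
  obtain ⟨t, u, v, rfl⟩ := hx
  obtain ⟨a, b, c, rfl⟩ := hx'
  obtain ⟨a', b', c', rfl⟩ := hy'
  exact D.disj _ _ _ _ _ _ _ _ _ _ _

theorem cover' (g : G) : (∃ x ∈ D.Us, ∃ z, g = x * D.H z) ∨
    ∃ x ∈ D.Us, ∃ z, ∃ y ∈ D.Us, g = x * D.H z * D.n * y := by
  rcases D.cover g with ⟨t, u, v, z, rfl⟩ | ⟨t, u, v, z, t', u', v', rfl⟩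
  · exact Or.inl ⟨_, D.U_mem t u v, z, rfl⟩
  · exact Or.inr ⟨_, D.U_mem t u v, z, _, D.U_mem t' u' v', rfl⟩

theorem H_inj : Function.Injective D.H := by
  intro z w h
  have := D.uniqB' (x := 1) (x' := 1) (one_mem _) (one_mem _) (z := z) (w := w) (by rw [h])
  exact this.2

theorem U_ne_one {t u v : K} (h : ¬ (t = 0 ∧ u = 0 ∧ v = 0)) : D.U t u v ≠ 1 := by
  rw [← D.U_zero]
  intro e
  exact h (D.U_inj _ _ _ _ _ _ e)

theorem H_comm (z w : Kˣ) : D.H z * D.H w = D.H w * D.H z := by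
  rw [← map_mul, ← map_mul, mul_comm]

/-- the normaliser of `U` is `U H`. -/
theorem normalizer_Us {g : G} (hg : ∀ x ∈ D.Us, g * x * g⁻¹ ∈ D.Us) : ∃ x ∈ D.Us, ∃ z, g = x * D.H z := by
  rcases D.cover' g with h | ⟨a, ha, z, b, hb, rfl⟩
  · exact h
  · exfalso
    have h1 := hg (b⁻¹ * D.U 0 0 1 * b) (mul_mem (mul_mem (inv_mem hb) (D.U_mem _ _ _)) hb)
    have h2 : D.n * D.U 0 0 1 * D.n⁻¹ ∈ D.Us := by
      have e : D.n * D.U 0 0 1 * D.n⁻¹ = (D.H z)⁻¹ * (a⁻¹ * (a * D.H z * D.n * b * (b⁻¹ * D.U 0 0 1 * b) *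
          (a * D.H z * D.n * b)⁻¹) * a) * D.H z := by group
      rw [e]
      exact D.H_conj_mem' z (mul_mem (mul_mem (inv_mem ha) h1) ha)
    have h3 : 1 * D.H 1 * D.n * D.U 0 0 1 = (D.n * D.U 0 0 1 * D.n⁻¹) * D.H 1 * D.n * 1 := by
      rw [map_one]; group
    have h4 := (D.uniq' (one_mem _) (D.U_mem _ _ _) h2 (one_mem _) h3).2.2
    exact D.U_ne_one (by simp) h4

theorem psi_w {z : K} (h : z ^ 2 * D.ψ z = 1) : z = 1 := by
  have h1 : D.ψ z ^ 2 * z ^ 3 = 1 := by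
    have := congrArg D.ψ h
    rwa [map_mul, map_pow, D.ψψ, map_one] at this
  have h2 : (z ^ 2 * D.ψ z) ^ 2 = 1 := by rw [h, one_pow]
  linear_combination h2 - z * h1

theorem psi_u {z : K} (h : z * D.ψ z = 1) : z ^ 2 = 1 := by
  have h1 : D.ψ z * z ^ 3 = 1 := by
    have := congrArg D.ψ h
    rwa [map_mul, D.ψψ, map_one] at this
  linear_combination h1 - z ^ 2 * h

theorem fpf {z : Kˣ} (hz : (z : K) ^ 2 ≠ 1) {x : G} (hx : x ∈ D.Us) (hc : D.H z * x = x * D.H z) :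
    x = 1 := by
  obtain ⟨t, u, v, rfl⟩ := hx
  have h1 := D.H_conj z t u v
  rw [hc, mul_inv_cancel_right] at h1
  obtain ⟨e1, e2, e3⟩ := D.U_inj _ _ _ _ _ _ h1
  have ht : t = 0 := by
    by_contra h0
    have : (z : K) = 1 := by
      apply mul_right_cancel₀ h0
      rw [one_mul, ← e1]
    exact hz (by rw [this, one_pow])
  have hu : u = 0 := by
    by_contra h0
    have : (z : K) * D.ψ z = 1 := by
      apply mul_right_cancel₀ h0
      rw [one_mul, ← e2]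
    exact hz (D.psi_u this)
  have hv : v = 0 := by
    by_contra h0
    have : (z : K) ^ 2 * D.ψ z = 1 := by
      apply mul_right_cancel₀ h0
      rw [one_mul, ← e3]
    exact hz (by rw [D.psi_w this, one_pow])
  rw [ht, hu, hv, D.U_zero]

include D in
theorem two_ne_zero' : (2 : K) ≠ 0 := by
  intro h
  have h3 := D.three
  have : (1 : K) = 0 := by linear_combination h3 - h
  exact one_ne_zero this

theorem t₀_sq : D.t₀ ^ 2 ≠ 1 := by
  intro h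
  have h1 : (D.t₀ - 1) * (D.t₀ + 1) = 0 := by linear_combination h
  apply D.ht₀
  rcases mul_eq_zero.1 h1 with h2 | h2
  · rw [sub_eq_zero.1 h2, map_one]
  · rw [eq_neg_of_add_eq_zero_left h2, map_neg, map_one]

theorem t₀_ne_zero : D.t₀ ≠ 0 := by
  intro h
  apply D.ht₀
  rw [h, map_zero]

/-- a unit acting fixed-point-freely. -/
def z₀ : Kˣ := Units.mk0 D.t₀ D.t₀_ne_zero

theorem z₀_sq : (D.z₀ : K) ^ 2 ≠ 1 := D.t₀_sq

section aut
variable [Finite G]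

theorem surj_Us (φ : MulAut G) (hU : ∀ x ∈ D.Us, φ x ∈ D.Us) {x : G} (hx : x ∈ D.Us) :
    ∃ x' ∈ D.Us, φ x' = x := by
  let f : D.Us → D.Us := fun y => ⟨φ y, hU y y.2⟩
  have hf : Function.Injective f := by
    intro y y' h
    exact Subtype.ext (φ.injective (congrArg Subtype.val h))
  obtain ⟨y, hy⟩ := (Finite.injective_iff_surjective.1 hf) ⟨x, hx⟩
  exact ⟨y, y.2, congrArg Subtype.val hy⟩

theorem step1 (hp : IsPGroup 3 D.Us) (hi : ¬ 3 ∣ D.Us.index) (φ : MulAut G) :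
    ∃ g : G, ∀ x ∈ D.Us, (MulAut.conj g * φ) x ∈ D.Us := by
  have : Fact (Nat.Prime 3) := ⟨Nat.prime_three⟩
  let S0 : Sylow 3 G := hp.toSylow hi
  have hS0 : ∀ g, g ∈ S0 ↔ g ∈ D.Us := fun g => IsPGroup.mem_toSylow hp hi
  let P : Sylow 3 G := S0.mapSurjective (f := φ.toMonoidHom) φ.surjective
  obtain ⟨g, hg⟩ := MulAction.exists_smul_eq G P S0
  refine ⟨g, fun x hx => ?_⟩
  rw [MulAut.mul_apply, MulAut.conj_apply, ← hS0, ← hg]
  have h1 : φ x ∈ P := ⟨x, (hS0 x).2 hx, rfl⟩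
  show g * φ x * g⁻¹ ∈ ((g • P : Sylow 3 G) : Subgroup G)
  rw [Sylow.coe_subgroup_smul, Subgroup.mem_pointwise_smul_iff_inv_smul_mem]
  simp only [MulAut.smul_def, MulAut.conj_inv_apply]
  have e : g⁻¹ * (g * φ x * g⁻¹) * g = φ x := by group
  rw [e]
  exact h1

include D in
theorem finite_K : Finite K :=
  Finite.of_injective (fun t => D.U t 0 0) (fun t t' h => (D.U_inj _ _ _ _ _ _ h).1)

theorem step2 (φ : MulAut G) (hU : ∀ x ∈ D.Us, φ x ∈ D.Us) :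
    ∃ g : G, (∀ x ∈ D.Us, (MulAut.conj g * φ) x ∈ D.Us) ∧
      ∀ z, ∃ z', (MulAut.conj g * φ) (D.H z) = D.H z' := by
  have := D.finite_K
  obtain ⟨k₀, hk₀⟩ := IsCyclic.exists_generator (α := Kˣ)
  have hnorm : ∀ x ∈ D.Us, φ (D.H k₀) * x * (φ (D.H k₀))⁻¹ ∈ D.Us := by
    intro x hx
    obtain ⟨x', hx', rfl⟩ := D.surj_Us φ hU hx
    rw [← map_inv, ← map_mul, ← map_mul]
    exact hU _ (D.H_conj_mem k₀ hx')
  obtain ⟨a, ha, z₁, e⟩ := D.normalizer_Us hnorm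
  have hz₁ : (z₁ : K) ^ 2 ≠ 1 := by
    intro h
    have h1 : z₁ * z₁ = 1 := Units.ext (by simpa [pow_two] using h)
    have h2 : φ (D.H (k₀ * k₀)) ∈ D.Us := by
      rw [map_mul, map_mul, e]
      have e2 : a * D.H z₁ * (a * D.H z₁) = a * (D.H z₁ * a * (D.H z₁)⁻¹) * D.H (z₁ * z₁) := by
        rw [map_mul]; group
      rw [e2, h1, map_one, mul_one]
      exact mul_mem ha (D.H_conj_mem z₁ ha)
    obtain ⟨x', hx', e3⟩ := D.surj_Us φ hU h2
    have e4 : x' = D.H (k₀ * k₀) := φ.injective e3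
    have e5 := (D.uniqB' (x := 1) (x' := x') (z := k₀ * k₀) (w := 1) (one_mem _) hx'
      (by rw [map_one, mul_one, one_mul, e4])).2
    obtain ⟨j, hj⟩ := Subgroup.mem_zpowers_iff.1 (hk₀ D.z₀)
    apply D.z₀_sq
    have h3 : D.z₀ * D.z₀ = 1 := by
      rw [← hj, ← mul_zpow, e5, one_zpow]
    simpa [pow_two] using congrArg Units.val h3
  let f : D.Us → D.Us := fun x =>
    ⟨x * (D.H z₁ * (x : G)⁻¹ * (D.H z₁)⁻¹), mul_mem x.2 (D.H_conj_mem z₁ (inv_mem x.2))⟩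
  have hf : Function.Injective f := by
    intro x y h
    have h' : (x : G) * (D.H z₁ * (x : G)⁻¹ * (D.H z₁)⁻¹) = y * (D.H z₁ * (y : G)⁻¹ * (D.H z₁)⁻¹) :=
      congrArg Subtype.val h
    have h1 : (y : G)⁻¹ * x = 1 := by
      apply D.fpf hz₁ (mul_mem (inv_mem y.2) x.2)
      have h2 : (y : G)⁻¹ * x = D.H z₁ * ((y : G)⁻¹ * x) * (D.H z₁)⁻¹ := by
        calc (y : G)⁻¹ * x = (y : G)⁻¹ * (x * (D.H z₁ * (x : G)⁻¹ * (D.H z₁)⁻¹)) *
              (D.H z₁ * x * (D.H z₁)⁻¹) := by group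
          _ = _ := by rw [h']; group
      calc D.H z₁ * ((y : G)⁻¹ * x) = (D.H z₁ * ((y : G)⁻¹ * x) * (D.H z₁)⁻¹) * D.H z₁ := by group
        _ = _ := by rw [← h2]
    exact Subtype.ext (inv_mul_eq_one.1 h1).symm
  obtain ⟨x, hx⟩ := (Finite.injective_iff_surjective.1 hf) ⟨a, ha⟩
  have hx' : (x : G) * (D.H z₁ * (x : G)⁻¹ * (D.H z₁)⁻¹) = a := congrArg Subtype.val hx
  refine ⟨(x : G)⁻¹, ?_, ?_⟩
  · intro y hy
    rw [MulAut.mul_apply, MulAut.conj_apply, inv_inv]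
    exact mul_mem (mul_mem (inv_mem x.2) (hU y hy)) x.2
  · intro z
    obtain ⟨j, rfl⟩ := Subgroup.mem_zpowers_iff.1 (hk₀ z)
    refine ⟨z₁ ^ j, ?_⟩
    rw [map_zpow, map_zpow, map_zpow, MulAut.mul_apply, MulAut.conj_apply, e, ← hx']
    congr 1
    group

end aut

theorem U00_mul (v v' : K) : D.U 0 0 v * D.U 0 0 v' = D.U 0 0 (v + v') := by
  rw [D.U_mul]
  congr 1 <;> simp

theorem U00_central (v t u v' : K) : D.U 0 0 v * D.U t u v' = D.U t u v' * D.U 0 0 v := by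
  rw [D.U_mul, D.U_mul]
  congr 1
  · ring
  · simp
  · simp; ring

theorem center_Us {x : G} (hx : x ∈ D.Us) (hc : ∀ y ∈ D.Us, x * y = y * x) : ∃ v, x = D.U 0 0 v := by
  obtain ⟨t, u, v, rfl⟩ := hx
  have h1 := hc _ (D.U_mem 1 0 0)
  rw [D.U_mul, D.U_mul] at h1
  obtain ⟨-, e1, e1'⟩ := D.U_inj _ _ _ _ _ _ h1
  have h2 := hc _ (D.U_mem D.t₀ 0 0)
  rw [D.U_mul, D.U_mul] at h2
  obtain ⟨-, e2, -⟩ := D.U_inj _ _ _ _ _ _ h2
  rw [map_one] at e1 e1'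
  have e3 : D.ψ t = t := by linear_combination e1
  rw [e3] at e2 e1'
  have ht : t = 0 := by
    have h3 : t * (D.ψ D.t₀ - D.t₀) = 0 := by linear_combination -e2
    rcases mul_eq_zero.1 h3 with h4 | h4
    · exact h4
    · exact absurd (sub_eq_zero.1 h4) D.ht₀
  subst ht
  have hu : u = 0 := by linear_combination -e1'
  subst hu
  exact ⟨v, rfl⟩

theorem w_inj {z z' : Kˣ} (h : (z : K) ^ 2 * D.ψ z = (z' : K) ^ 2 * D.ψ z') : z = z' := by
  have h1 : ((z * z'⁻¹ : Kˣ) : K) = 1 := by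
    apply D.psi_w
    have hz' : (z' : K) ≠ 0 := z'.ne_zero
    have hp : D.ψ (z' : K) ≠ 0 := (map_ne_zero D.ψ).2 hz'
    rw [Units.val_mul, Units.val_inv_eq_inv_val, map_mul, map_inv₀]
    field_simp
    linear_combination h
  have h2 : z * z'⁻¹ = 1 := Units.ext h1
  exact mul_inv_eq_one.1 h2

/-- the unit with `v`-weight `y`. -/
def ζ (y : Kˣ) : Kˣ := y ^ 2 * (Units.map (D.ψ : K →* K) y)⁻¹

theorem w_ζ (y : Kˣ) : ((D.ζ y : Kˣ) : K) ^ 2 * D.ψ (D.ζ y) = y := by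
  have hy : (y : K) ≠ 0 := y.ne_zero
  have hp : D.ψ (y : K) ≠ 0 := (map_ne_zero D.ψ).2 hy
  unfold ζ
  rw [Units.val_mul, Units.val_inv_eq_inv_val, Units.val_pow_eq_pow_val, Units.coe_map, map_mul, map_inv₀,
    map_pow]
  simp only [MonoidHom.coe_coe, D.ψψ]
  field_simp

end ReeData

end Cfsg.Agent.Lib.Helper8
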