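import Cfsg.Agent.Lib.Helper8.ReeAbs

/-!
# Automorphisms of groups with small Ree normal form: rigidity
-/

set_option autoImplicit false

namespace Cfsg.Agent.Lib.Helper8

namespace ReeData

variable {G : Type*} [Group G] {K : Type*} [Field K] (D : ReeData G K)

theorem U_decomp (t u v : K) : D.U t u v = D.U t 0 0 * D.U 0 u 0 * D.U 0 0 v := by
  rw [D.U_mul, D.U_mul]
  congr 1 <;> simp

theorem U_t_mul (t t' : K) : D.U t 0 0 * D.U t' 0 0 =
    D.U (t + t') (-(t * D.ψ t')) (t * t' * D.ψ t' - t ^ 2 * D.ψ t') := by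
  rw [D.U_mul]
  congr 1 <;> simp

theorem t₀_cube : D.t₀ ^ 3 - D.t₀ ≠ 0 := by
  intro h
  have h1 : D.t₀ * (D.t₀ ^ 2 - 1) = 0 := by linear_combination h
  rcases mul_eq_zero.1 h1 with h2 | h2
  · exact D.t₀_ne_zero h2
  · exact D.t₀_sq (sub_eq_zero.1 h2)

/-- an automorphism normalising `U`, fixing `H` and `Z(U)` elementwise, fixes `U` elementwise. -/
theorem rigid_U (φ : MulAut G) (hU : ∀ x ∈ D.Us, φ x ∈ D.Us) (hH : ∀ z, φ (D.H z) = D.H z)
    (hZ : ∀ v, φ (D.U 0 0 v) = D.U 0 0 v) (t u v : K) : φ (D.U t u v) = D.U t u v := by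
  obtain ⟨a₁, b₁, c₁, e1⟩ := hU _ (D.U_mem 1 0 0)
  have h3 := D.three
  have hT : ∀ t, φ (D.U t 0 0) = D.U (t * a₁) (t * D.ψ t * b₁) (t ^ 2 * D.ψ t * c₁) := by
    intro t
    by_cases ht : t = 0
    · subst ht
      rw [D.U_zero, map_one, ← D.U_zero]
      congr 1 <;> simp
    · have e2 := D.H_conj (Units.mk0 t ht) 1 0 0
      simp only [Units.val_mk0, mul_one, mul_zero] at e2
      rw [← e2, map_mul, map_mul, map_inv, hH, e1, D.H_conj]
      rfl
  have hM : ∀ u, ∃ g, φ (D.U 0 u 0) = D.U 0 g 0 := by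
    intro u
    obtain ⟨A, B, C, e⟩ := hU _ (D.U_mem 0 u 0)
    have e2 := D.H_conj (-1) 0 u 0
    simp only [Units.val_neg, Units.val_one, mul_zero, map_neg, map_one, mul_neg, mul_one, neg_neg,
      one_mul] at e2
    have e3 := congrArg φ e2
    rw [map_mul, map_mul, map_inv, hH, e, D.H_conj] at e3
    obtain ⟨f1, -, f3⟩ := D.U_inj _ _ _ _ _ _ e3
    simp only [Units.val_neg, Units.val_one, map_neg, map_one] at f1 f3
    have h2 := D.two_ne_zero'
    have hA : A = 0 := by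
      have : 2 * A = 0 := by linear_combination -f1
      exact (mul_eq_zero.1 this).resolve_left h2
    have hC : C = 0 := by
      have : 2 * C = 0 := by linear_combination -f3
      exact (mul_eq_zero.1 this).resolve_left h2
    exact ⟨B, by rw [e, hA, hC]⟩
  choose g hg using hM
  have key : ∀ t t', ((t + t') * (D.ψ t + D.ψ t') * b₁ + g (-(t * D.ψ t')) =
      t * D.ψ t * b₁ + t' * D.ψ t' * b₁ - t * a₁ * (D.ψ t' * D.ψ a₁)) ∧
      ((t + t') ^ 2 * (D.ψ t + D.ψ t') * c₁ + (t * t' * D.ψ t' - t ^ 2 * D.ψ t') =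
        t ^ 2 * D.ψ t * c₁ + t' ^ 2 * D.ψ t' * c₁ - t * D.ψ t * b₁ * (t' * a₁) +
          t * a₁ * (t' * a₁) * (D.ψ t' * D.ψ a₁) - (t * a₁) ^ 2 * (D.ψ t' * D.ψ a₁)) := by
    intro t t'
    have h := congrArg φ (D.U_t_mul t t')
    rw [map_mul, hT, hT, D.U_decomp (t + t'), map_mul, map_mul, hT, hg, hZ, D.U_mul, D.U_mul, D.U_mul] at h
    obtain ⟨-, eu, ev⟩ := D.U_inj _ _ _ _ _ _ h
    simp only [map_zero, mul_zero, zero_mul, add_zero, sub_zero, map_mul, map_add] at eu ev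
    exact ⟨by linear_combination -eu, by linear_combination -ev⟩
  have hg1 : ∀ t, g (-t) = -b₁ * (t + D.ψ t) - t * a₁ * D.ψ a₁ := by
    intro t
    have := (key t 1).1
    rw [map_one, mul_one] at this
    linear_combination this
  have hb : b₁ = 0 := by
    have h1 := (key 1 D.t₀).1
    rw [map_one, one_mul, hg1, D.ψψ] at h1
    have h2 : b₁ * (D.t₀ ^ 3 - D.t₀) = 0 := by linear_combination -h1
    exact (mul_eq_zero.1 h2).resolve_right D.t₀_cube
  subst hb
  have ha : a₁ = 1 := by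
    apply D.psi_w
    have h1 := (key (-1) 1).2
    rw [map_neg, map_one] at h1
    have h2 : 2 * (a₁ ^ 2 * D.ψ a₁ - 1) = 0 := by linear_combination h1
    exact sub_eq_zero.1 ((mul_eq_zero.1 h2).resolve_left D.two_ne_zero')
  subst ha
  have hc : c₁ = 0 := by
    have h1 := (key D.t₀ 1).2
    rw [map_one] at h1
    have h2 : c₁ * ((D.t₀ - 1) * (D.t₀ - D.ψ D.t₀)) = 0 := by
      linear_combination h1 - c₁ * (D.t₀ * D.ψ D.t₀ + D.t₀) * h3
    rcases mul_eq_zero.1 h2 with h4 | h4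
    · exact h4
    · exfalso
      rcases mul_eq_zero.1 h4 with h5 | h5
      · apply D.ht₀
        rw [sub_eq_zero.1 h5, map_one]
      · exact D.ht₀ (sub_eq_zero.1 h5).symm
  subst hc
  have hg2 : ∀ u, g u = u := by
    intro u
    have := hg1 (-u)
    rw [neg_neg, map_one] at this
    rw [this]; ring
  rw [D.U_decomp, map_mul, map_mul, hT, hg, hZ, hg2]
  congr 3 <;> simp

end ReeData

end Cfsg.Agent.Lib.Helper8
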