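import Cfsg.Agent.Lib.Helper8.ReeAbs2

/-!
# Automorphisms of groups with small Ree normal form: the outer automorphism group
-/

set_option autoImplicit false

namespace Cfsg.Agent.Lib.Helper8

namespace ReeData

variable {G : Type*} [Group G] {K : Type*} [Field K] (D : ReeData G K)

theorem norm_H_aux {a b : G} {z z1 z2 : Kˣ} (ha : a ∈ D.Us) (hb : b ∈ D.Us)
    (h : (a * D.H z * D.n * b) * D.H z1 * (a * D.H z * D.n * b)⁻¹ = D.H z2)
    (hn : D.n * D.H z1 * D.n⁻¹ = D.H z2) :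
    D.H z2 * a = a * D.H z2 ∧ D.H z1 * b = b * D.H z1 := by
  have h1 : a * D.H (z * z2) * D.n * ((D.H z1)⁻¹ * b * D.H z1) =
      (D.H z2 * a * (D.H z2)⁻¹) * D.H (z2 * z) * D.n * b := by
    have e1 : a * D.H (z * z2) * D.n * ((D.H z1)⁻¹ * b * D.H z1) =
        (a * D.H z * D.n * b) * D.H z1 := by
      rw [map_mul, ← hn]; group
    have e2 : (D.H z2 * a * (D.H z2)⁻¹) * D.H (z2 * z) * D.n * b = D.H z2 * (a * D.H z * D.n * b) := by
      rw [map_mul]; group
    rw [e1, e2, ← h]; group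
  obtain ⟨f1, -, f2⟩ := D.uniq' ha (D.H_conj_mem' z1 hb) (D.H_conj_mem z2 ha) hb h1
  constructor
  · calc D.H z2 * a = (D.H z2 * a * (D.H z2)⁻¹) * D.H z2 := by group
      _ = _ := by rw [← f1]
  · calc D.H z1 * b = D.H z1 * ((D.H z1)⁻¹ * b * D.H z1) := by rw [f2]
      _ = _ := by group

theorem n_conj_not_B {x : G} (hx : x ∈ D.Us) (hx1 : x ≠ 1) {a : G} (ha : a ∈ D.Us) (z : Kˣ) :
    D.n * x * D.n⁻¹ ≠ a * D.H z := by
  intro h
  have h1 : 1 * D.H 1 * D.n * x = a * D.H z * D.n * 1 := by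
    rw [← h, map_one]; group
  exact hx1 (D.uniq' (one_mem _) hx ha (one_mem _) h1).2.2

/-- an automorphism fixing `U` and `H` elementwise is trivial. -/
theorem rigid (φ : MulAut G) (hU : ∀ x ∈ D.Us, φ x = x) (hH : ∀ z, φ (D.H z) = D.H z) : φ = 1 := by
  have hn : φ D.n = D.n := by
    rcases D.cover' (φ D.n) with ⟨a, ha, z, e⟩ | ⟨a, ha, z, b, hb, e⟩
    · exfalso
      have e1 : φ (a * D.H z) = φ D.n := by rw [map_mul, hU a ha, hH, e]
      have e2 := φ.injective e1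
      apply D.disj' (x := a) (z := z) (x' := 1) (w := 1) (y' := 1) ha (one_mem _) (one_mem _)
      rw [e2, map_one]; group
    · obtain ⟨z', hz'⟩ := D.n_H D.z₀
      obtain ⟨z'', hz''⟩ := D.n_H' D.z₀
      have hz3 : D.n * D.H z'' * D.n⁻¹ = D.H D.z₀ := by rw [← hz'']; group
      have h1 := congrArg φ hz'
      rw [map_mul, map_mul, map_inv, hH, hH, e] at h1
      have h2 := congrArg φ hz3
      rw [map_mul, map_mul, map_inv, hH, hH, e] at h2
      have hb1 : b = 1 := D.fpf D.z₀_sq hb (D.norm_H_aux ha hb h1 hz').2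
      have ha1 : a = 1 := D.fpf D.z₀_sq ha (D.norm_H_aux ha hb h2 hz3).1
      subst hb1 ha1
      rw [one_mul, mul_one] at e
      have hx0 : D.U 0 0 1 ≠ 1 := D.U_ne_one (by simp)
      rcases D.cover' (D.n * D.U 0 0 1 * D.n⁻¹) with ⟨a₁, ha₁, z₁, e1⟩ | ⟨a₁, ha₁, z₁, b₁, hb₁, e1⟩
      · exact absurd e1 (D.n_conj_not_B (D.U_mem _ _ _) hx0 ha₁ z₁)
      · obtain ⟨z₃, hz₃⟩ := D.n_H z⁻¹
        have h3 := congrArg φ e1
        rw [map_mul, map_mul, map_inv, hU _ (D.U_mem _ _ _), map_mul, map_mul, map_mul, hU _ ha₁, hU _ hb₁,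
          hH, e] at h3
        have h4 : (D.H z * a₁ * (D.H z)⁻¹) * D.H (z * z₁ * z₃) * D.n * (D.H z * b₁ * (D.H z)⁻¹) =
            a₁ * D.H (z₁ * z) * D.n * b₁ := by
          have f1 : (D.H z * a₁ * (D.H z)⁻¹) * D.H (z * z₁ * z₃) * D.n * (D.H z * b₁ * (D.H z)⁻¹) =
              D.H z * (a₁ * D.H z₁ * D.n * b₁) * (D.H z)⁻¹ := by
            rw [map_mul, map_mul, ← hz₃, map_inv]; group
          have f2 : a₁ * D.H (z₁ * z) * D.n * b₁ = a₁ * D.H z₁ * (D.H z * D.n) * b₁ := by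
            rw [map_mul]; group
          rw [f1, f2, ← h3, ← e1]; group
        have h5 := (D.uniq' (D.H_conj_mem z ha₁) (D.H_conj_mem z hb₁) ha₁ hb₁ h4).2.1
        have h6 : z₃ = 1 := by
          have : z₁ * z * z₃ = z₁ * z * 1 := by
            calc z₁ * z * z₃ = z * z₁ * z₃ := by rw [mul_comm z₁ z]
              _ = z₁ * z := h5
              _ = z₁ * z * 1 := (mul_one _).symm
          exact mul_left_cancel this
        rw [h6, map_one] at hz₃
        have h7 : D.H z⁻¹ = D.H 1 := by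
          rw [map_one]
          calc D.H z⁻¹ = D.n⁻¹ * (D.n * D.H z⁻¹ * D.n⁻¹) * D.n := by group
            _ = 1 := by rw [hz₃]; group
        have h8 : z = 1 := inv_eq_one.1 (D.H_inj h7)
        rw [e, h8, map_one, one_mul]
  ext g
  rw [MulAut.one_apply]
  rcases D.cover' g with ⟨a, ha, z, rfl⟩ | ⟨a, ha, z, b, hb, rfl⟩
  · rw [map_mul, hU a ha, hH]
  · rw [map_mul, map_mul, map_mul, hU a ha, hU b hb, hH, hn]

section field
variable [Finite G] (F : (K ≃+* K) → MulAut G)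
  (hFU : ∀ τ t u v, F τ (D.U t u v) = D.U (τ t) (τ u) (τ v))
  (hFH : ∀ τ z, ∃ z', F τ (D.H z) = D.H z')

include hFU hFH in
theorem step3 (φ : MulAut G) (hU : ∀ x ∈ D.Us, φ x ∈ D.Us) (hH : ∀ z, ∃ z', φ (D.H z) = D.H z') :
    ∃ (τ : K ≃+* K) (c : Kˣ), F τ.symm * MulAut.conj (D.H c)⁻¹ * φ = 1 := by
  have hfin := D.finite_K
  have hcen : ∀ v, ∃ v', φ (D.U 0 0 v) = D.U 0 0 v' := by
    intro v
    apply D.center_Us (hU _ (D.U_mem _ _ _))
    intro y hy
    obtain ⟨y', hy', rfl⟩ := D.surj_Us φ hU hy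
    obtain ⟨t, u, v', rfl⟩ := hy'
    rw [← map_mul, ← map_mul, D.U00_central]
  choose f hf using hcen
  choose σ hσ using hH
  have fadd : ∀ v v', f (v + v') = f v + f v' := by
    intro v v'
    have := congrArg φ (D.U00_mul v v')
    rw [map_mul, hf, hf, hf, D.U00_mul] at this
    exact (D.U_inj _ _ _ _ _ _ this).2.2.symm
  have f0 : f 0 = 0 := by
    have := fadd 0 0
    rw [add_zero] at this
    exact left_eq_add.1 this
  have fmul : ∀ (y : Kˣ) (v : K), ∃ s : K, ∀ v, f (y * v) = s * f v := by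
    intro y _
    refine ⟨((σ (D.ζ y) : Kˣ) : K) ^ 2 * D.ψ (σ (D.ζ y)), fun v => ?_⟩
    have h1 := D.H_conj (D.ζ y) 0 0 v
    rw [D.w_ζ, mul_zero, mul_zero] at h1
    have h2 := congrArg φ h1
    rw [map_mul, map_mul, map_inv, hσ, hf, hf, D.H_conj, mul_zero, mul_zero] at h2
    exact (D.U_inj _ _ _ _ _ _ h2).2.2.symm
  have hc₁ : f 1 ≠ 0 := by
    intro h
    have h1 := hf 1
    rw [h, D.U_zero] at h1
    exact D.U_ne_one (by simp) (φ.injective (h1.trans (map_one φ).symm))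
  have fmul' : ∀ y y', f (y * y') * f 1 = f y * f y' := by
    intro y y'
    by_cases hy : y = 0
    · subst hy; rw [zero_mul, f0, zero_mul, zero_mul]
    · obtain ⟨s, hs⟩ := fmul (Units.mk0 y hy) 0
      have h1 := hs y'
      have h2 := hs 1
      rw [Units.val_mk0] at h1 h2
      rw [mul_one] at h2
      rw [h1, h2]; ring
  let τ₀ : K →+* K :=
    { toFun := fun y => f y / f 1
      map_one' := div_self hc₁
      map_mul' := by
        intro y y'
        show f (y * y') / f 1 = f y / f 1 * (f y' / f 1)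
        field_simp
        exact fmul' y y'
      map_zero' := by show f 0 / f 1 = 0; rw [f0, zero_div]
      map_add' := by
        intro y y'
        show f (y + y') / f 1 = f y / f 1 + f y' / f 1
        rw [fadd, add_div] }
  have hbij : Function.Bijective τ₀ := ⟨τ₀.injective, Finite.injective_iff_surjective.1 τ₀.injective⟩
  let τ : K ≃+* K := RingEquiv.ofBijective τ₀ hbij
  have hτ : ∀ y, τ y = f y / f 1 := fun y => rfl
  let c : Kˣ := D.ζ (Units.mk0 (f 1) hc₁)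
  have hc : ((c : Kˣ) : K) ^ 2 * D.ψ c = f 1 := D.w_ζ _
  refine ⟨τ, c, ?_⟩
  set φ' : MulAut G := F τ.symm * MulAut.conj (D.H c)⁻¹ * φ with hφ'
  have hU' : ∀ x ∈ D.Us, φ' x ∈ D.Us := by
    intro x hx
    rw [hφ', MulAut.mul_apply, MulAut.mul_apply, MulAut.conj_apply, inv_inv]
    obtain ⟨t, u, v, e⟩ := D.H_conj_mem' c (hU x hx)
    rw [e, hFU]
    exact D.U_mem _ _ _
  have hZ' : ∀ v, φ' (D.U 0 0 v) = D.U 0 0 v := by
    intro v
    rw [hφ', MulAut.mul_apply, MulAut.mul_apply, MulAut.conj_apply, hf, ← map_inv, D.H_conj, hFU, mul_zero,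
      mul_zero, map_zero]
    congr 1
    rw [RingEquiv.symm_apply_eq, hτ, Units.val_inv_eq_inv_val, map_inv₀, inv_pow, ← mul_inv, hc]
    field_simp
  have hH'' : ∀ z, ∃ z', φ' (D.H z) = D.H z' := by
    intro z
    obtain ⟨z', hz'⟩ := hFH τ.symm (σ z)
    refine ⟨z', ?_⟩
    rw [hφ', MulAut.mul_apply, MulAut.mul_apply, MulAut.conj_apply, hσ, inv_inv, ← hz']
    congr 1
    rw [mul_assoc, D.H_comm, inv_mul_cancel_left]
  have hH' : ∀ z, φ' (D.H z) = D.H z := by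
    intro z
    obtain ⟨z', hz'⟩ := hH'' z
    rw [hz']
    congr 1
    apply D.w_inj
    have h1 := D.H_conj z 0 0 1
    have h2 := congrArg φ' h1
    rw [map_mul, map_mul, map_inv, hz', mul_zero, mul_zero, hZ', hZ', D.H_conj, mul_zero, mul_zero] at h2
    have h3 := (D.U_inj _ _ _ _ _ _ h2).2.2
    rwa [mul_one, mul_one] at h3
  apply D.rigid φ' _ hH'
  rintro x ⟨t, u, v, rfl⟩
  exact D.rigid_U φ' hU' hH' hZ' t u v

omit [Finite G] in
include hFU in
theorem field_inj {τ σ : K ≃+* K} {g : G} (h : F τ * MulAut.conj g = F σ) : τ = σ := by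
  obtain ⟨g', hg'⟩ : ∃ g', g' = F τ g := ⟨_, rfl⟩
  have key : ∀ x, g' * F τ x * g'⁻¹ = F σ x := by
    intro x
    rw [← h, MulAut.mul_apply, MulAut.conj_apply, map_mul, map_mul, map_inv, hg']
  have hnorm : ∀ x ∈ D.Us, g' * x * g'⁻¹ ∈ D.Us := by
    rintro x ⟨t, u, v, rfl⟩
    have h1 := key (D.U (τ.symm t) (τ.symm u) (τ.symm v))
    rw [hFU, hFU, RingEquiv.apply_symm_apply, RingEquiv.apply_symm_apply, RingEquiv.apply_symm_apply] at h1
    rw [h1]
    exact D.U_mem _ _ _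
  obtain ⟨a, ⟨t, u, v, rfl⟩, z, rfl⟩ := D.normalizer_Us hnorm
  have h2 : ∀ x, σ x = (z : K) ^ 2 * D.ψ z * τ x := by
    intro x
    have h1 := key (D.U 0 0 x)
    rw [hFU, hFU, map_zero, map_zero] at h1
    have e : D.U t u v * D.H z * D.U 0 0 (τ x) * (D.U t u v * D.H z)⁻¹ =
        D.U t u v * (D.H z * D.U 0 0 (τ x) * (D.H z)⁻¹) * (D.U t u v)⁻¹ := by group
    rw [e, D.H_conj, mul_zero, mul_zero, ← D.U00_central, mul_inv_cancel_right] at h1
    exact (D.U_inj _ _ _ _ _ _ h1).2.2.symm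
  have h3 := h2 1
  rw [map_one, map_one, mul_one] at h3
  ext x
  rw [h2 x, ← h3, one_mul]

include hFU hFH in
theorem card_Out (hp : IsPGroup 3 D.Us) (hi : ¬ 3 ∣ D.Us.index) (hFinv : ∀ τ, (F τ)⁻¹ = F τ.symm) :
    Nat.card (Cfsg.Out G) = Nat.card (K ≃+* K) := by
  symm
  apply Nat.card_congr
  refine Equiv.ofBijective (fun τ => (QuotientGroup.mk (F τ) : Cfsg.Out _)) ⟨?_, ?_⟩
  · intro τ σ h
    rw [QuotientGroup.eq] at h
    obtain ⟨g, hg⟩ := h
    apply D.field_inj F hFU (g := g)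
    rw [hg]; group
  · intro x
    obtain ⟨φ, rfl⟩ := QuotientGroup.mk_surjective x
    obtain ⟨g₁, h₁⟩ := D.step1 hp hi φ
    obtain ⟨g₂, h₂, h₂'⟩ := D.step2 _ h₁
    obtain ⟨τ, c, h₃⟩ := D.step3 F hFU hFH _ h₂ h₂'
    refine ⟨τ, ?_⟩
    have e1 : F τ = MulAut.conj ((D.H c)⁻¹ * g₂ * g₁) * φ := by
      have e2 : F τ = (F τ.symm)⁻¹ := by rw [hFinv, RingEquiv.symm_symm]
      rw [e2, map_mul, map_mul, inv_eq_iff_mul_eq_one, ← h₃]
      simp only [mul_assoc]
    show (QuotientGroup.mk (F τ) : Cfsg.Out _) = QuotientGroup.mk φ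
    rw [e1, QuotientGroup.mk_mul]
    have : (QuotientGroup.mk (MulAut.conj ((D.H c)⁻¹ * g₂ * g₁)) : Cfsg.Out G) = 1 :=
      (QuotientGroup.eq_one_iff _).2 ⟨_, rfl⟩
    rw [this, one_mul]

end field

end ReeData

end Cfsg.Agent.Lib.Helper8
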