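import Cfsg.Agent.Lib.Helper22.Ree16

/-!
# The multiplication law of the unipotent subgroup `U¹` of the small Ree groups
-/

set_option autoImplicit false
set_option maxRecDepth 100000

namespace Cfsg.Agent.Lib.Helper8
open Cfsg.Lie Matrix Cfsg.Agent.Lib.Helper23 Cfsg.Agent.Lib.Helper45 Cfsg.Agent.Lib.Helper22

section rel
variable {K : Type*} [Field K] [CharP K 3] (hA : AddFact chevG2 K)

theorem g2_rel87 (a T : K) : hA.X 8 a * hA.X 7 T = hA.X 7 T * (hA.X 8 a * hA.X 9 (-(a * T))) := by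
  have h := W_eq_of_checkIdP tbG2_valid 3 hA
    (w1 := [(8, ⟨2, 0, 0, 1, 0⟩), (7, ⟨2, 0, 0, 0, 1⟩)])
    (w2 := [(7, ⟨2, 0, 0, 0, 1⟩), (8, ⟨2, 0, 0, 1, 0⟩), (9, ⟨3, 0, 0, 1, 1⟩)])
    (by decide) (by decide) (by decide +kernel) (envTU a T)
  simp only [AddFact.W, List.map_cons, List.map_nil, List.prod_cons, List.prod_nil, mul_one, mono_eval_TU,
    dc_two, dc_three] at h
  simpa using h

theorem g2_rel106 (c t : K) : hA.X 10 c * hA.X 6 t = hA.X 6 t * (hA.X 10 c * hA.X 11 (-(c * t))) := by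
  have h := W_eq_of_checkIdP tbG2_valid 3 hA
    (w1 := [(10, ⟨2, 0, 0, 1, 0⟩), (6, ⟨2, 0, 0, 0, 1⟩)])
    (w2 := [(6, ⟨2, 0, 0, 0, 1⟩), (10, ⟨2, 0, 0, 1, 0⟩), (11, ⟨3, 0, 0, 1, 1⟩)])
    (by decide) (by decide) (by decide +kernel) (envTU c t)
  simp only [AddFact.W, List.map_cons, List.map_nil, List.prod_cons, List.prod_nil, mul_one, mono_eval_TU,
    dc_two, dc_three] at h
  simpa using h

theorem g2_c97 (x y : K) : Commute (hA.X 9 x) (hA.X 7 y) :=
  g2_commP hA 9 7 (by decide) (by decide) (by decide +kernel) x y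
theorem g2_c107 (x y : K) : Commute (hA.X 10 x) (hA.X 7 y) :=
  g2_commP hA 10 7 (by decide) (by decide) (by decide +kernel) x y
theorem g2_c117 (x y : K) : Commute (hA.X 11 x) (hA.X 7 y) :=
  g2_commP hA 11 7 (by decide) (by decide) (by decide +kernel) x y
theorem g2_c86 (x y : K) : Commute (hA.X 8 x) (hA.X 6 y) :=
  g2_commP hA 8 6 (by decide) (by decide) (by decide +kernel) x y
theorem g2_c96 (x y : K) : Commute (hA.X 9 x) (hA.X 6 y) :=
  g2_commP hA 9 6 (by decide) (by decide) (by decide +kernel) x y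
theorem g2_c116 (x y : K) : Commute (hA.X 11 x) (hA.X 6 y) :=
  g2_commP hA 11 6 (by decide) (by decide) (by decide +kernel) x y

/-- abbreviation for the abelian part. -/
noncomputable abbrev Ph (a b c d : K) : GL chevG2.Idx K := Phi hA 8 9 10 11 a b c d

theorem Ph_mul (a b c d a' b' c' d' : K) :
    Ph hA a b c d * Ph hA a' b' c' d' = Ph hA (a + a') (b + b') (c + c') (d + d') :=
  (reeRel_pos hA).Phi_mul a b c d a' b' c' d'

theorem Ph_X7 (a b c d T : K) : Ph hA a b c d * hA.X 7 T = hA.X 7 T * Ph hA a (b - a * T) c d := by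
  have hQ : Commute (hA.X 9 b * (hA.X 10 c * hA.X 11 d)) (hA.X 7 T) :=
    (g2_c97 hA b T).mul_left ((g2_c107 hA c T).mul_left (g2_c117 hA d T))
  have e1 : Ph hA a b c d * hA.X 7 T = hA.X 8 a * hA.X 7 T * (hA.X 9 b * (hA.X 10 c * hA.X 11 d)) := by
    unfold Ph Phi
    rw [mul_assoc, hQ.eq, mul_assoc]
  have e2 : hA.X 9 b * (hA.X 10 c * hA.X 11 d) = Ph hA 0 b c d := by
    unfold Ph Phi; simp
  have e3 : hA.X 8 a * hA.X 9 (-(a * T)) = Ph hA a (-(a * T)) 0 0 := by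
    unfold Ph Phi; simp
  rw [e1, g2_rel87, e2, e3, mul_assoc, Ph_mul]
  congr 2 <;> ring

theorem Ph_X6 (a b c d t : K) : Ph hA a b c d * hA.X 6 t = hA.X 6 t * Ph hA a b c (d - c * t) := by
  have e0 : Ph hA a b c d = Ph hA a b 0 d * hA.X 10 c := by
    have : hA.X 10 c = Ph hA 0 0 c 0 := by unfold Ph Phi; simp
    rw [this, Ph_mul]
    congr 1 <;> ring
  have hQ : Commute (Ph hA a b 0 d) (hA.X 6 t) := by
    unfold Ph Phi
    rw [hA.X_zero, one_mul]
    exact (g2_c86 hA a t).mul_left ((g2_c96 hA b t).mul_left (g2_c116 hA d t))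
  have e3 : hA.X 10 c * hA.X 11 (-(c * t)) = Ph hA 0 0 c (-(c * t)) := by
    unfold Ph Phi; simp
  rw [e0, mul_assoc, g2_rel106, e3, ← mul_assoc, hQ.eq, mul_assoc, Ph_mul]
  congr 2 <;> ring

theorem X6_X7 (t T : K) : hA.X 6 t * hA.X 7 T =
    hA.X 7 T * (hA.X 6 t * Ph hA (t * T) (T ^ 2 * t) (-(T ^ 3 * t)) (-(t ^ 2 * T ^ 3))) := by
  have := (reeRel_pos hA).A t T
  simpa only [one_mul] using this

/-- the multiplication law of `U` in characteristic 3. -/
theorem N_mul (T t a b c d T' t' a' b' c' d' : K) :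
    (hA.X 7 T * (hA.X 6 t * Ph hA a b c d)) * (hA.X 7 T' * (hA.X 6 t' * Ph hA a' b' c' d')) =
      hA.X 7 (T + T') * (hA.X 6 (t + t') * Ph hA (a + a' + t * T') (b + b' - a * T' + T' ^ 2 * t)
        (c + c' - T' ^ 3 * t) (d + d' - c * t' - t ^ 2 * T' ^ 3 + T' ^ 3 * t * t')) := by
  calc (hA.X 7 T * (hA.X 6 t * Ph hA a b c d)) * (hA.X 7 T' * (hA.X 6 t' * Ph hA a' b' c' d'))
      = hA.X 7 T * (hA.X 6 t * ((Ph hA a b c d * hA.X 7 T') * (hA.X 6 t' * Ph hA a' b' c' d'))) := by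
        simp only [mul_assoc]
    _ = hA.X 7 T * ((hA.X 6 t * hA.X 7 T') * ((Ph hA a (b - a * T') c d * hA.X 6 t') * Ph hA a' b' c' d')) := by
        rw [Ph_X7]; simp only [mul_assoc]
    _ = (hA.X 7 T * hA.X 7 T') * (hA.X 6 t * ((Ph hA (t * T') (T' ^ 2 * t) (-(T' ^ 3 * t)) (-(t ^ 2 * T' ^ 3)) *
          hA.X 6 t') * (Ph hA a (b - a * T') c (d - c * t') * Ph hA a' b' c' d'))) := by
        rw [Ph_X6, X6_X7]; simp only [mul_assoc]
    _ = _ := by
        rw [Ph_X6, ← hA.X_add, Ph_mul, mul_assoc (hA.X 6 t'), Ph_mul, ← mul_assoc (hA.X 6 t), ← hA.X_add]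
        congr 3 <;> ring

end rel

section law
variable {K : Type*} [Field K] [CharP K 3] (hA : AddFact chevG2 K)

theorem reeU_eq_N (m : ℕ) (t u v : K) : reeU hA m t u v =
    hA.X 7 (reeTh K m t) * (hA.X 6 t * Ph hA (t * reeTh K m t + reeTh K m u)
      (reeTh K m t ^ 2 * t + reeTh K m v) u v) := by
  simp only [reeU, reeW, AddFact.W, List.map_cons, List.map_nil, List.prod_cons, List.prod_nil, mul_one, one_mul,
    Ph, Phi]

variable [Fintype K] {m : ℕ} (hK : Fintype.card K = 3 ^ (2 * m + 1))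

include hK in
theorem reeU_mul (t u v t' u' v' : K) : reeU hA m t u v * reeU hA m t' u' v' =
    reeU hA m (t + t') (u + u' - t * reePs K m t')
      (v + v' - u * t' + t * t' * reePs K m t' - t ^ 2 * reePs K m t') := by
  have h3 : (3 : K) = 0 := by
    have := CharP.cast_eq_zero K 3
    exact_mod_cast this
  rw [reeU_eq_N, reeU_eq_N, reeU_eq_N, N_mul]
  simp only [map_add, map_sub, map_mul, map_pow, reeTh_reePs hK]
  rw [reePs_apply]
  congr 3
  · ring
  · linear_combination (-(reeTh K m t * reeTh K m t' * t') - t * reeTh K m t * reeTh K m t') * h3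
  · ring
  · ring

end law

end Cfsg.Agent.Lib.Helper8
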