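import Cfsg.Agent.Lib.Helper8.ReeAbs3
import Cfsg.Agent.Lib.Helper8.ReeMul

/-!
# The small Ree groups satisfy `ReeData`
-/

set_option autoImplicit false
set_option maxRecDepth 100000

namespace Cfsg.Agent.Lib.Helper8
open Cfsg.Lie Matrix Cfsg.Agent.Lib.Helper23 Cfsg.Agent.Lib.Helper45 Cfsg.Agent.Lib.Helper22

section field
variable {K : Type*} [Field K] [CharP K 3] [Fintype K] {m : ℕ} (hK : Fintype.card K = 3 ^ (2 * m + 1))

include hK in
theorem reePs_reePs (x : K) : reePs K m (reePs K m x) = x ^ 3 := by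
  conv_lhs => rw [reePs_apply m x, map_pow, reePs_reeTh hK]

omit [Fintype K] in
theorem three_eq_zero : (3 : K) = 0 := by
  have := CharP.cast_eq_zero K 3
  exact_mod_cast this

include hK in
theorem exists_reePs_ne (hm : 1 ≤ m) : ∃ t : K, reePs K m t ≠ t := by
  have hlt : 2 < Fintype.card K - 1 := by
    rw [hK]
    have : 3 ^ (2 * 1 + 1) ≤ 3 ^ (2 * m + 1) := Nat.pow_le_pow_right (by norm_num) (by omega)
    norm_num at this
    omega
  obtain ⟨y, hy, hy2⟩ := exists_pow_ne_one (K := K) (m := 2) (by omega) hlt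
  refine ⟨y, fun h => hy2 ?_⟩
  have h1 := reePs_reePs hK y
  rw [h, h] at h1
  have h2 : y * (y ^ 2 - 1) = 0 := by linear_combination -h1
  exact sub_eq_zero.1 ((mul_eq_zero.1 h2).resolve_left hy)

/-- the weight of the torus parameter on the centre. -/
noncomputable def reeWt (K : Type*) [Field K] [CharP K 3] (m : ℕ) : Kˣ →* Kˣ where
  toFun z := z ^ 2 * Units.map (reePs K m : K →* K) z
  map_one' := by simp
  map_mul' z z' := by rw [map_mul, mul_pow]; exact mul_mul_mul_comm _ _ _ _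

omit [Fintype K] in
theorem reeWt_val (z : Kˣ) : ((reeWt K m z : Kˣ) : K) = (z : K) ^ 2 * reePs K m z := by
  simp [reeWt]

include hK in
theorem reeWt_surj (y : Kˣ) : ∃ z : Kˣ, reeWt K m z = y := by
  refine ⟨y ^ 2 * (Units.map (reePs K m : K →* K) y)⁻¹, ?_⟩
  apply Units.ext
  have hy : (y : K) ≠ 0 := y.ne_zero
  have hp : reePs K m (y : K) ≠ 0 := (map_ne_zero _).2 hy
  rw [reeWt_val, Units.val_mul, Units.val_inv_eq_inv_val, Units.val_pow_eq_pow_val, Units.coe_map, map_mul,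
    map_inv₀, map_pow]
  simp only [MonoidHom.coe_coe, reePs_reePs hK]
  field_simp

include hK in
theorem chi6_wt (z : Kˣ) : hhChi (reeTh K m (reeWt K m z : Kˣ)) ((reeWt K m z : Kˣ) : K) 6 = z := by
  have hz : (z : K) ≠ 0 := z.ne_zero
  have hp : reePs K m (z : K) ≠ 0 := (map_ne_zero _).2 hz
  have e : reeTh K m ((reeWt K m z : Kˣ) : K) ^ 3 = reePs K m z ^ 2 * (z : K) ^ 3 := by
    rw [← reePs_apply, reeWt_val, map_mul, map_pow, reePs_reePs hK]
  rw [hhChi_6, _root_.zpow_neg]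
  have e2 : reeTh K m ((reeWt K m z : Kˣ) : K) ^ (3 : ℤ) = reePs K m z ^ 2 * (z : K) ^ 3 := by
    rw [← e]; norm_cast
  have e3 : ((reeWt K m z : Kˣ) : K) ^ (2 : ℤ) = ((z : K) ^ 2 * reePs K m z) ^ 2 := by
    rw [← reeWt_val]; norm_cast
  rw [e2, e3]
  field_simp

include hK in
theorem chi10_wt (z : Kˣ) : hhChi (reeTh K m (reeWt K m z : Kˣ)) ((reeWt K m z : Kˣ) : K) 10 =
    z * reePs K m z := by
  have hz : (z : K) ≠ 0 := z.ne_zero
  have hp : reePs K m (z : K) ≠ 0 := (map_ne_zero _).2 hz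
  have e : reeTh K m ((reeWt K m z : Kˣ) : K) ^ 3 = reePs K m z ^ 2 * (z : K) ^ 3 := by
    rw [← reePs_apply, reeWt_val, map_mul, map_pow, reePs_reePs hK]
  rw [hhChi_10, _root_.zpow_neg_one]
  have e2 : reeTh K m ((reeWt K m z : Kˣ) : K) ^ (3 : ℤ) = reePs K m z ^ 2 * (z : K) ^ 3 := by
    rw [← e]; norm_cast
  rw [e2, reeWt_val]
  field_simp

include hK in
theorem reeWt_inj : Function.Injective (reeWt K m) := fun z w h =>
  Units.ext (by rw [← chi6_wt hK z, h, chi6_wt hK w])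

end field

section sigma
variable {K : Type*} [Field K] [CharP K 3] [Fintype K] {m : ℕ} (hK : Fintype.card K = 3 ^ (2 * m + 1))
  (b : Bundle chevG2 K) (α : ↥(chevG2.group K) ≃* ↥(chevG2.group K))
  (hα : ∀ r < 12, ∀ t : K,
    (α ⟨b.hA.X r t, b.hA.X_mem_group r t⟩ : GL chevG2.Idx K) = b.hA.X (isoRhoG2 r) (t ^ isoLamG2 r))

/-- the torus as a homomorphism into the Ree group, parametrised by the weight on `U/U'`. -/
noncomputable def reeHG : Kˣ →* ↥(twistedG2 K (3 ^ m)) :=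
  ((reeHhom b.hA m).comp (reeWt K m)).codRestrict (twistedG2 K (3 ^ m))
    (fun z => reeH_mem hK b.hA (reeWt K m z).ne_zero)

theorem reeHG_val (z : Kˣ) : ((reeHG hK b z : ↥(twistedG2 K (3 ^ m))) : GL chevG2.Idx K) =
    reeH b.hA m ((reeWt K m z : Kˣ) : K) := rfl

include hK in
theorem exists_reeHG {y : K} (hy : y ≠ 0) : ∃ z : Kˣ, reeH b.hA m y = (reeHG hK b z : GL chevG2.Idx K) := by
  obtain ⟨z, hz⟩ := reeWt_surj hK (Units.mk0 y hy)
  exact ⟨z, by rw [reeHG_val, hz]; rfl⟩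

omit [CharP K 3] [Fintype K] in
include b in
theorem ree_UH_uniq {x x' h h' : GL chevG2.Idx K} (hx : x ∈ chevG2.posUnipotent K)
    (hx' : x' ∈ chevG2.posUnipotent K) (hh : h ∈ chevG2.diagonalSubgroup K)
    (hh' : h' ∈ chevG2.diagonalSubgroup K) (e : x * h = x' * h') : x = x' ∧ h = h' := by
  have h1 : x'⁻¹ * x = h' * h⁻¹ := by
    calc x'⁻¹ * x = x'⁻¹ * (x * h) * h⁻¹ := by group
      _ = h' * h⁻¹ := by rw [e]; group
  have h2 : x'⁻¹ * x ∈ chevG2.posUnipotent K ⊓ chevG2.diagonalSubgroup K := by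
    refine Subgroup.mem_inf.2 ⟨mul_mem (inv_mem hx') hx, ?_⟩
    rw [h1]
    exact mul_mem hh' (inv_mem hh)
  rw [b.hTri.UH, Subgroup.mem_bot] at h2
  have h3 : x = x' := (inv_mul_eq_one.1 h2).symm
  refine ⟨h3, ?_⟩
  rw [h3] at e
  exact mul_left_cancel e

/-- the small Ree group as an instance of `ReeData`. -/
noncomputable def reeData (t₀ : K) (ht₀ : reePs K m t₀ ≠ t₀) : ReeData ↥(twistedG2 K (3 ^ m)) K where
  ψ := reePs K m
  U t u v := ⟨reeU b.hA m t u v, reeU_mem' b.hA m t u v⟩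
  H := reeHG hK b
  n := ⟨b.hA.nword reeOm, ree_n0_mem b.hA m⟩
  ψψ := reePs_reePs hK
  three := three_eq_zero
  t₀ := t₀
  ht₀ := ht₀
  U_mul t u v t' u' v' := Subtype.ext (reeU_mul b.hA hK t u v t' u' v')
  U_inj t u v t' u' v' h := reeU_inj b (congrArg Subtype.val h)
  H_conj z t u v := by
    apply Subtype.ext
    have h := reeH_conj_reeU hK b α hα (reeWt K m z).ne_zero t u v
    rw [chi6_wt hK, chi10_wt hK, reeWt_val] at h
    exact h
  n_H z := by
    have hS := sharpBN_of_mem K (D := chevG2) (by simp)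
    have h1 : b.hA.nword reeOm * reeH b.hA m ((reeWt K m z : Kˣ) : K) * (b.hA.nword reeOm)⁻¹ ∈
        chevG2.diagonalSubgroup K ⊓ twistedG2 K (3 ^ m) :=
      ⟨hS.H_norm _ (b.hA.nword_mem_mono b.hR reeOm_lt) _ (reeH_mem_diag b.hA (reeWt K m z).ne_zero),
        Subgroup.mul_mem _ (Subgroup.mul_mem _ (ree_n0_mem b.hA m) (reeH_mem hK b.hA (reeWt K m z).ne_zero))
          (Subgroup.inv_mem _ (ree_n0_mem b.hA m))⟩
    obtain ⟨y, hy, e⟩ := (mem_reeH1_iff hK b α hα _).1 h1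
    obtain ⟨z', hz'⟩ := exists_reeHG hK b hy
    exact ⟨z', Subtype.ext (e.trans hz')⟩
  n_H' z := by
    have hS := sharpBN_of_mem K (D := chevG2) (by simp)
    have h1 : (b.hA.nword reeOm)⁻¹ * reeH b.hA m ((reeWt K m z : Kˣ) : K) * b.hA.nword reeOm ∈
        chevG2.diagonalSubgroup K ⊓ twistedG2 K (3 ^ m) :=
      ⟨hS.H_norm' (b.hA.nword_mem_mono b.hR reeOm_lt) (reeH_mem_diag b.hA (reeWt K m z).ne_zero),
        Subgroup.mul_mem _ (Subgroup.mul_mem _ (Subgroup.inv_mem _ (ree_n0_mem b.hA m))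
          (reeH_mem hK b.hA (reeWt K m z).ne_zero)) (ree_n0_mem b.hA m)⟩
    obtain ⟨y, hy, e⟩ := (mem_reeH1_iff hK b α hα _).1 h1
    obtain ⟨z', hz'⟩ := exists_reeHG hK b hy
    exact ⟨z', Subtype.ext (e.trans hz')⟩
  cover := by
    rintro ⟨g, hg1⟩
    have hB : ∀ x ∈ chevG2.borelSubgroup K, x ∈ twistedG2 K (3 ^ m) →
        ∃ t u v, ∃ z : Kˣ, x = reeU b.hA m t u v * (reeHG hK b z : GL chevG2.Idx K) := by
      intro x hx hx1
      obtain ⟨u, hu, hu1, h, hh, hh1, rfl⟩ := ree_B1_split hK b α hα hx hx1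
      obtain ⟨t, u', v, rfl⟩ := (mem_reeU1_iff hK b α hα _).1 ⟨hu, hu1⟩
      obtain ⟨y, hy, rfl⟩ := (mem_reeH1_iff hK b α hα _).1 ⟨hh, hh1⟩
      obtain ⟨z, hz⟩ := exists_reeHG hK b hy
      exact ⟨t, u', v, z, by rw [hz]⟩
    rcases ree_cover hK b α hα hg1 with h | ⟨x, hx, hx1, u, hu, hu1, e⟩
    · left
      obtain ⟨t, u, v, z, e⟩ := hB g h hg1
      exact ⟨t, u, v, z, Subtype.ext e⟩
    · right
      obtain ⟨t, u₁, v, z, rfl⟩ := hB x hx hx1
      obtain ⟨t', u', v', rfl⟩ := (mem_reeU1_iff hK b α hα _).1 ⟨hu, hu1⟩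
      exact ⟨t, u₁, v, z, t', u', v', Subtype.ext e⟩
  uniq t u v z t' u' v' a b' c w a' b'' c' h := by
    have hS := sharpBN_of_mem K (D := chevG2) (by simp)
    have hn0N := b.hA.nword_mem_mono (F := K) b.hR reeOm_lt
    have h' : reeU b.hA m t u v * reeH b.hA m ((reeWt K m z : Kˣ) : K) * b.hA.nword reeOm * reeU b.hA m t' u' v' =
        reeU b.hA m a b' c * reeH b.hA m ((reeWt K m w : Kˣ) : K) * b.hA.nword reeOm * reeU b.hA m a' b'' c' :=
      congrArg Subtype.val h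
    have hBm : ∀ (t u v : K) (z : Kˣ), reeU b.hA m t u v * reeH b.hA m ((reeWt K m z : Kˣ) : K) ∈
        chevG2.borelSubgroup K := fun t u v z =>
      mul_mem (hS.U_le (reeU_mem_pos b.hA _ t u v)) (hS.H_le_B (reeH_mem_diag b.hA (reeWt K m z).ne_zero))
    obtain ⟨h1, h2⟩ := (hS.uniq _ _ _ _ _ _ (hBm t u v z) (hBm a b' c w) hn0N hn0N
      (by rw [ree_Umin b]; exact reeU_mem_pos b.hA _ _ _ _)
      (by rw [ree_Umin b]; exact reeU_mem_pos b.hA _ _ _ _) h').2 rfl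
    obtain ⟨h3, h4⟩ := ree_UH_uniq b (reeU_mem_pos b.hA _ _ _ _) (reeU_mem_pos b.hA _ _ _ _)
      (reeH_mem_diag b.hA (reeWt K m z).ne_zero) (reeH_mem_diag b.hA (reeWt K m w).ne_zero) h1
    exact ⟨Subtype.ext h3, reeWt_inj hK (Units.ext (reeH_inj b.hA (reeWt K m z).ne_zero
      (reeWt K m w).ne_zero h4)), Subtype.ext h2⟩
  uniqB t u v z a b' c w h := by
    have h' : reeU b.hA m t u v * reeH b.hA m ((reeWt K m z : Kˣ) : K) =
        reeU b.hA m a b' c * reeH b.hA m ((reeWt K m w : Kˣ) : K) := congrArg Subtype.val h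
    obtain ⟨h3, h4⟩ := ree_UH_uniq b (reeU_mem_pos b.hA _ _ _ _) (reeU_mem_pos b.hA _ _ _ _)
      (reeH_mem_diag b.hA (reeWt K m z).ne_zero) (reeH_mem_diag b.hA (reeWt K m w).ne_zero) h'
    exact ⟨Subtype.ext h3, reeWt_inj hK (Units.ext (reeH_inj b.hA (reeWt K m z).ne_zero
      (reeWt K m w).ne_zero h4))⟩
  disj t u v z a b' c w a' b'' c' h := by
    have hS := sharpBN_of_mem K (D := chevG2) (by simp)
    have h' : reeU b.hA m t u v * reeH b.hA m ((reeWt K m z : Kˣ) : K) =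
        reeU b.hA m a b' c * reeH b.hA m ((reeWt K m w : Kˣ) : K) * b.hA.nword reeOm * reeU b.hA m a' b'' c' :=
      congrArg Subtype.val h
    have hBm : ∀ (t u v : K) (z : Kˣ), reeU b.hA m t u v * reeH b.hA m ((reeWt K m z : Kˣ) : K) ∈
        chevG2.borelSubgroup K := fun t u v z =>
      mul_mem (hS.U_le (reeU_mem_pos b.hA _ t u v)) (hS.H_le_B (reeH_mem_diag b.hA (reeWt K m z).ne_zero))
    apply ree_n0_not_borel b
    have e : b.hA.nword reeOm = (reeU b.hA m a b' c * reeH b.hA m ((reeWt K m w : Kˣ) : K))⁻¹ *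
        (reeU b.hA m a b' c * reeH b.hA m ((reeWt K m w : Kˣ) : K) * b.hA.nword reeOm * reeU b.hA m a' b'' c') *
          (reeU b.hA m a' b'' c')⁻¹ := by group
    rw [e, ← h']
    exact mul_mem (mul_mem (inv_mem (hBm _ _ _ _)) (hBm _ _ _ _)) (inv_mem (hS.U_le (reeU_mem_pos b.hA _ _ _ _)))

end sigma

end Cfsg.Agent.Lib.Helper8
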