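import Cfsg.Agent.Lib.Helper8.ReeInst

/-!
# Elements of order 3 in `U¹`
-/

set_option autoImplicit false
set_option maxRecDepth 100000

namespace Cfsg.Agent.Lib.Helper8
open Cfsg.Lie Matrix Cfsg.Agent.Lib.Helper23 Cfsg.Agent.Lib.Helper45 Cfsg.Agent.Lib.Helper22

section sigma
variable {K : Type*} [Field K] [CharP K 3] [Fintype K] {m : ℕ} (hK : Fintype.card K = 3 ^ (2 * m + 1))
  (b : Bundle chevG2 K) (α : ↥(chevG2.group K) ≃* ↥(chevG2.group K))
  (hα : ∀ r < 12, ∀ t : K,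
    (α ⟨b.hA.X r t, b.hA.X_mem_group r t⟩ : GL chevG2.Idx K) = b.hA.X (isoRhoG2 r) (t ^ isoLamG2 r))

include hK in
theorem reeU_cube (hA : AddFact chevG2 K) (t u v : K) :
    reeU hA m t u v ^ 3 = reeU hA m 0 0 (-(t ^ 2 * reePs K m t)) := by
  have h3 : (3 : K) = 0 := three_eq_zero
  rw [pow_three, reeU_mul hA hK, reeU_mul hA hK]
  simp only [map_add]
  congr 1
  · linear_combination t * h3
  · linear_combination (u - t * reePs K m t) * h3
  · linear_combination (v - u * t + t ^ 2 * reePs K m t) * h3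

omit [Fintype K] in
theorem reeU_zero (hA : AddFact chevG2 K) : reeU hA m 0 0 0 = 1 := by
  simp [reeU, reeW, AddFact.W]

include hK in
theorem reeU_orderOf_three (t u v : K) :
    orderOf (reeU b.hA m t u v) = 3 ↔ t = 0 ∧ ¬ (u = 0 ∧ v = 0) := by
  have : Fact (Nat.Prime 3) := ⟨Nat.prime_three⟩
  rw [orderOf_eq_prime_iff, reeU_cube hK, ← reeU_zero (m := m) b.hA]
  constructor
  · rintro ⟨h1, h2⟩
    have h3 := (reeU_inj b h1).2.2
    have ht : t = 0 := by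
      by_contra h0
      have : t ^ 2 * reePs K m t ≠ 0 := mul_ne_zero (pow_ne_zero _ h0) ((map_ne_zero _).2 h0)
      exact this (neg_eq_zero.1 h3)
    refine ⟨ht, ?_⟩
    rintro ⟨rfl, rfl⟩
    exact h2 (by rw [ht])
  · rintro ⟨rfl, h⟩
    refine ⟨by simp, fun e => h ?_⟩
    exact (reeU_inj b e).2

include hK hα in
theorem card_reeU1_order_three :
    Nat.card {u : ↥(chevG2.posUnipotent K ⊓ twistedG2 K (3 ^ m)) // orderOf u = 3} =
      (3 ^ (2 * m + 1)) ^ 2 - 1 := by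
  classical
  let f : {p : K × K // p ≠ 0} → {u : ↥(chevG2.posUnipotent K ⊓ twistedG2 K (3 ^ m)) // orderOf u = 3} :=
    fun p => ⟨⟨reeU b.hA m 0 p.1.1 p.1.2, (mem_reeU1_iff hK b α hα _).2 ⟨_, _, _, rfl⟩⟩, by
      rw [← Subgroup.orderOf_coe]
      refine (reeU_orderOf_three hK b 0 p.1.1 p.1.2).2 ⟨rfl, fun h => p.2 ?_⟩
      exact Prod.ext h.1 h.2⟩
  have hf : Function.Bijective f := by
    constructor
    · rintro ⟨⟨u, v⟩, hp⟩ ⟨⟨u', v'⟩, hp'⟩ h
      have h1 : reeU b.hA m 0 u v = reeU b.hA m 0 u' v' :=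
        congrArg (fun x : {u : ↥(chevG2.posUnipotent K ⊓ twistedG2 K (3 ^ m)) // orderOf u = 3} =>
          ((x : ↥(chevG2.posUnipotent K ⊓ twistedG2 K (3 ^ m))) : GL chevG2.Idx K)) h
      obtain ⟨-, h2, h3⟩ := reeU_inj b h1
      subst h2 h3
      rfl
    · rintro ⟨⟨g, hg⟩, ho⟩
      obtain ⟨t, u, v, rfl⟩ := (mem_reeU1_iff hK b α hα _).1 hg
      rw [← Subgroup.orderOf_coe] at ho
      obtain ⟨rfl, h⟩ := (reeU_orderOf_three hK b t u v).1 ho
      refine ⟨⟨(u, v), fun e => h ?_⟩, rfl⟩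
      exact ⟨congrArg Prod.fst e, congrArg Prod.snd e⟩
  rw [← Nat.card_congr (Equiv.ofBijective f hf), Nat.card_eq_fintype_card]
  have := Set.card_ne_eq (0 : K × K)
  rw [Fintype.card_prod, hK] at this
  rw [pow_two, ← this]
  rfl

end sigma

end Cfsg.Agent.Lib.Helper8
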