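import Cfsg.Agent.Lib.Helper8.ReeInst
import Cfsg.Agent.Lib.Helper8.ReeLad
import Cfsg.Agent.Lib.Helper85.St2Lift

/-!
# The `SL₂(K)` inside the small Ree group, and the instance of `ReeFull`
-/

set_option autoImplicit false
set_option maxRecDepth 100000

namespace Cfsg.Agent.Lib.Helper8
open Cfsg.Lie Matrix Cfsg.Agent.Lib.Helper23 Cfsg.Agent.Lib.Helper45 Cfsg.Agent.Lib.Helper22

section rel
variable {K : Type*} [Field K] [CharP K 3] (hA : AddFact chevG2 K)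

theorem g2_sl8 {a : K} (ha : a ≠ 0) (b : K) :
    hA.X 8 a * (hA.X 3 (-a⁻¹) * (hA.X 8 a * hA.X 8 b)) =
      hA.X 3 (-(a⁻¹ ^ 2 * b)) * (hA.X 8 a * (hA.X 3 (-a⁻¹) * hA.X 8 a)) := by
  have h := W_eq_of_checkIdNP tbG2_valid 3 hA
    (w1 := [(8, ⟨2, 1, 0, 0, 0⟩), (3, ⟨3, 0, 1, 0, 0⟩), (8, ⟨2, 1, 0, 0, 0⟩), (8, ⟨2, 0, 0, 1, 0⟩)])
    (w2 := [(3, ⟨3, 0, 2, 1, 0⟩), (8, ⟨2, 1, 0, 0, 0⟩), (3, ⟨3, 0, 1, 0, 0⟩), (8, ⟨2, 1, 0, 0, 0⟩)])
    (by decide) (by decide) (by decide +kernel) ⟨a, a⁻¹, b, 0, mul_inv_cancel₀ ha⟩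
  simp only [AddFact.W, List.map_cons, List.map_nil, List.prod_cons, List.prod_nil, mul_one, Mono.eval,
    dc_two, dc_three] at h
  simpa using h

theorem g2_sl10 {a : K} (ha : a ≠ 0) (b : K) :
    hA.X 10 a * (hA.X 1 (-a⁻¹) * (hA.X 10 a * hA.X 10 b)) =
      hA.X 1 (-(a⁻¹ ^ 2 * b)) * (hA.X 10 a * (hA.X 1 (-a⁻¹) * hA.X 10 a)) := by
  have h := W_eq_of_checkIdNP tbG2_valid 3 hA
    (w1 := [(10, ⟨2, 1, 0, 0, 0⟩), (1, ⟨3, 0, 1, 0, 0⟩), (10, ⟨2, 1, 0, 0, 0⟩), (10, ⟨2, 0, 0, 1, 0⟩)])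
    (w2 := [(1, ⟨3, 0, 2, 1, 0⟩), (10, ⟨2, 1, 0, 0, 0⟩), (1, ⟨3, 0, 1, 0, 0⟩), (10, ⟨2, 1, 0, 0, 0⟩)])
    (by decide) (by decide) (by decide +kernel) ⟨a, a⁻¹, b, 0, mul_inv_cancel₀ ha⟩
  simp only [AddFact.W, List.map_cons, List.map_nil, List.prod_cons, List.prod_nil, mul_one, Mono.eval,
    dc_two, dc_three] at h
  simpa using h

theorem g2_c810 (x y : K) : Commute (hA.X 8 x) (hA.X 10 y) :=
  g2_commP hA 8 10 (by decide) (by decide) (by decide +kernel) x y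
theorem g2_c81 (x y : K) : Commute (hA.X 8 x) (hA.X 1 y) :=
  g2_commP hA 8 1 (by decide) (by decide) (by decide +kernel) x y
theorem g2_c310 (x y : K) : Commute (hA.X 3 x) (hA.X 10 y) :=
  g2_commP hA 3 10 (by decide) (by decide) (by decide +kernel) x y
theorem g2_c31 (x y : K) : Commute (hA.X 3 x) (hA.X 1 y) :=
  g2_commP hA 3 1 (by decide) (by decide) (by decide +kernel) x y

theorem mul4_comm {G : Type*} [Group G] (a1 a2 a3 a4 b1 b2 b3 b4 : G) (h12 : Commute b1 a2)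
    (h13 : Commute b1 a3) (h14 : Commute b1 a4) (h23 : Commute b2 a3) (h24 : Commute b2 a4)
    (h34 : Commute b3 a4) :
    (a1 * b1) * (a2 * b2) * (a3 * b3) * (a4 * b4) = (a1 * (a2 * (a3 * a4))) * (b1 * (b2 * (b3 * b4))) := by
  rw [h12.mul_mul_mul_comm, (h13.mul_left h23).mul_mul_mul_comm,
    ((h14.mul_left h24).mul_left h34).mul_mul_mul_comm]
  simp only [mul_assoc]

/-- the upper root elements of the `SL₂`. -/
noncomputable def slX (m : ℕ) (t : K) : GL chevG2.Idx K := hA.X 8 (reeTh K m t) * hA.X 10 t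

/-- the lower root elements of the `SL₂`. -/
noncomputable def slY (m : ℕ) (t : K) : GL chevG2.Idx K := hA.X 3 (reeTh K m t) * hA.X 1 t

theorem slX_add (m : ℕ) (t u : K) : slX hA m t * slX hA m u = slX hA m (t + u) := by
  unfold slX
  rw [(g2_c810 hA _ _).symm.mul_mul_mul_comm, map_add, hA.X_add, hA.X_add]

theorem slY_add (m : ℕ) (t u : K) : slY hA m t * slY hA m u = slY hA m (t + u) := by
  unfold slY
  rw [(g2_c31 hA _ _).symm.mul_mul_mul_comm, map_add, hA.X_add, hA.X_add]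

theorem sl_rel (m : ℕ) (t u : K) (ht : t ≠ 0) :
    (slX hA m t * slY hA m (-t⁻¹) * slX hA m t) * slX hA m u *
      (slX hA m t * slY hA m (-t⁻¹) * slX hA m t)⁻¹ = slY hA m (-(t⁻¹ ^ 2 * u)) := by
  rw [mul_inv_eq_iff_eq_mul]
  have ha : reeTh K m t ≠ 0 := (map_ne_zero _).2 ht
  have e1 : reeTh K m (-t⁻¹) = -(reeTh K m t)⁻¹ := by rw [map_neg, map_inv₀]
  have e2 : reeTh K m (-(t⁻¹ ^ 2 * u)) = -((reeTh K m t)⁻¹ ^ 2 * reeTh K m u) := by
    rw [map_neg, map_mul, map_pow, map_inv₀]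
  unfold slX slY
  rw [e1, e2]
  rw [mul4_comm _ _ _ _ _ _ _ _ (g2_c310 hA _ _).symm (g2_c810 hA _ _).symm (g2_c810 hA _ _).symm
    (g2_c81 hA _ _).symm (g2_c81 hA _ _).symm (g2_c810 hA _ _).symm, g2_sl8 hA ha, g2_sl10 hA ht]
  rw [← mul_assoc (hA.X 3 _ * hA.X 1 _), ← mul_assoc (hA.X 3 _ * hA.X 1 _),
    mul4_comm _ _ _ _ _ _ _ _ (g2_c81 hA _ _).symm (g2_c31 hA _ _).symm (g2_c81 hA _ _).symm
    (g2_c310 hA _ _).symm (g2_c810 hA _ _).symm (g2_c81 hA _ _).symm]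

theorem slX_eq (m : ℕ) (t : K) : slX hA m t = reeU hA m 0 t 0 := (reeU_0u0 hA m t).symm

theorem slY_eq (m : ℕ) (t : K) : slY hA m t = reeV hA m 0 (-t) 0 := by
  rw [reeV_0u0, map_neg, neg_neg, neg_neg]; rfl

/-- the Steinberg data of the `SL₂`. -/
noncomputable def reeSt2 (m : ℕ) : Cfsg.Agent.Lib.Helper85.St2 K ↥(twistedG2 K (3 ^ m)) where
  x t := ⟨slX hA m t, by rw [slX_eq]; exact reeU_mem' hA m _ _ _⟩
  y t := ⟨slY hA m t, by rw [slY_eq]; exact reeV_mem' hA m _ _ _⟩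
  x_add t u := Subtype.ext (slX_add hA m t u)
  y_add t u := Subtype.ext (slY_add hA m t u)
  rel t u ht := Subtype.ext (sl_rel hA m t u ht)

end rel

section mats
open Cfsg.Agent.Lib.Helper46 Cfsg.Agent.Lib.Helper85
variable {K : Type*} [Field K]

theorem uu_eq_up (t : K) : uu t = SL2.up t := rfl

theorem ll_eq_lo (t : K) : ll t = SL2.lo t := rfl

theorem ww_eq_up : (ww : SpecialLinearGroup (Fin 2) K) = SL2.up 1 * SL2.lo (-1) * SL2.up 1 := by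
  rw [← uu_eq_up, ← ll_eq_lo]
  apply Cfsg.Agent.Lib.Helper46.ext2 <;>
    simp [ww, uu, ll, mul_00, mul_01, mul_10, mul_11]

theorem dd_eq_up (z : Kˣ) : dd z = (SL2.up (z : K) * SL2.lo (-(z : K)⁻¹) * SL2.up (z : K)) *
    (SL2.up (-1) * SL2.lo (-(-1 : K)⁻¹) * SL2.up (-1)) := by
  have hz : (z : K) ≠ 0 := z.ne_zero
  rw [← uu_eq_up, ← ll_eq_lo, ← uu_eq_up, ← ll_eq_lo]
  apply Cfsg.Agent.Lib.Helper46.ext2 <;>
    simp [dd, uu, ll, mul_00, mul_01, mul_10, mul_11, hz]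

theorem ww_mul_ww : (ww : SpecialLinearGroup (Fin 2) K) * ww = dd (-1) := by
  apply Cfsg.Agent.Lib.Helper46.ext2 <;>
    simp [ww, dd, mul_00, mul_01, mul_10, mul_11]

end mats

section inst
open Cfsg.Agent.Lib.Helper46 Cfsg.Agent.Lib.Helper85
variable {K : Type*} [Field K] [CharP K 3] [Fintype K] {m : ℕ} (hK : Fintype.card K = 3 ^ (2 * m + 1))
  (b : Bundle chevG2 K) (α : ↥(chevG2.group K) ≃* ↥(chevG2.group K))
  (hα : ∀ r < 12, ∀ t : K,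
    (α ⟨b.hA.X r t, b.hA.X_mem_group r t⟩ : GL chevG2.Idx K) = b.hA.X (isoRhoG2 r) (t ^ isoLamG2 r))

include hK in
theorem h810_eq (hA : AddFact chevG2 K) {s : K} (hs : s ≠ 0) :
    hA.hG 8 (reeTh K m s) * hA.hG 10 s = reeH hA m (reePs K m s * s) := by
  have hs' : reeTh K m s ≠ 0 := (map_ne_zero _).2 hs
  rw [hG8_eq hA hs', hG10_eq hA hs, hh_mul hA hs' (pow_ne_zero _ hs') hs hs]
  unfold reeH
  rw [map_mul, reeTh_reePs hK, reePs_apply, mul_comm s]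

/-- the homomorphism `SL₂(K) → ²G₂(q)`. -/
noncomputable def reePhi (hA : AddFact chevG2 K) (m : ℕ) : SpecialLinearGroup (Fin 2) K →* ↥(twistedG2 K (3 ^ m)) :=
  (reeSt2 hA m).exists_hom.choose

theorem reePhi_up (hA : AddFact chevG2 K) (m : ℕ) (t : K) : reePhi hA m (SL2.up t) = (reeSt2 hA m).x t :=
  (reeSt2 hA m).exists_hom.choose_spec.1 t

theorem reePhi_lo (hA : AddFact chevG2 K) (m : ℕ) (t : K) : reePhi hA m (SL2.lo t) = (reeSt2 hA m).y t :=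
  (reeSt2 hA m).exists_hom.choose_spec.2 t

theorem reePhi_ww (hA : AddFact chevG2 K) (m : ℕ) :
    ((reePhi hA m ww : ↥(twistedG2 K (3 ^ m))) : GL chevG2.Idx K) = hA.nword reeOm := by
  rw [ww_eq_up, map_mul, map_mul, reePhi_up, reePhi_lo, ← ree_n0_eq hA (reeTh K m)]
  show slX hA m 1 * slY hA m (-1) * slX hA m 1 = _
  rw [slX_eq, slY_eq, neg_neg]
  rfl

include hK in
theorem reePhi_dd (hA : AddFact chevG2 K) (z : Kˣ) :
    ((reePhi hA m (dd z) : ↥(twistedG2 K (3 ^ m))) : GL chevG2.Idx K) = reeH hA m (reePs K m z * z) := by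
  rw [dd_eq_up, map_mul, map_mul, map_mul, map_mul, map_mul, reePhi_up, reePhi_lo, reePhi_up, reePhi_lo,
    ← h810_eq hK hA z.ne_zero, ree_h810 hA ((map_ne_zero _).2 z.ne_zero) z.ne_zero]
  show slX hA m z * slY hA m (-(z : K)⁻¹) * slX hA m z *
    (slX hA m (-1) * slY hA m (-(-1 : K)⁻¹) * slX hA m (-1)) = _
  have i1 : -(-1 : K)⁻¹ = 1 := by norm_num
  unfold slX slY
  rw [i1, map_neg, map_neg, map_inv₀, map_one]

/-- the small Ree group as an instance of `ReeFull`. -/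
noncomputable def reeFull (hm : 1 ≤ m) (t₀ : K) (ht₀ : reePs K m t₀ ≠ t₀) :
    ReeFull ↥(twistedG2 K (3 ^ m)) K where
  toReeData := reeData hK b α hα t₀ ht₀
  m := m
  hm := hm
  hK := by rw [Nat.card_eq_fintype_card, hK]
  φ := reePhi b.hA m
  φ_uu t := by
    rw [uu_eq_up, reePhi_up]
    exact Subtype.ext (slX_eq b.hA m t)
  φ_ww := Subtype.ext (reePhi_ww b.hA m)
  φ_dd z := by
    obtain ⟨z', hz'⟩ := exists_reeHG hK b (y := reePs K m z * z)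
      (mul_ne_zero ((map_ne_zero _).2 z.ne_zero) z.ne_zero)
    exact ⟨z', Subtype.ext ((reePhi_dd hK b.hA z).trans hz')⟩
  n_sq := by
    have h1 : (⟨b.hA.nword reeOm, ree_n0_mem b.hA m⟩ : ↥(twistedG2 K (3 ^ m))) = reePhi b.hA m ww :=
      Subtype.ext (reePhi_ww b.hA m).symm
    show (⟨b.hA.nword reeOm, ree_n0_mem b.hA m⟩ : ↥(twistedG2 K (3 ^ m))) * ⟨b.hA.nword reeOm, ree_n0_mem b.hA m⟩ = 1
    rw [h1, ← map_mul, ww_mul_ww]
    apply Subtype.ext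
    rw [reePhi_dd hK]
    have e : reePs K m ((-1 : Kˣ) : K) * ((-1 : Kˣ) : K) = 1 := by simp
    rw [e]
    exact (reeHhom b.hA m).map_one
  perfect := ree_perfect hK b α hα hm

end inst

end Cfsg.Agent.Lib.Helper8
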