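import Cfsg.Agent.Lib.Helper8.ReeInst

/-!
# The faithful 7-dimensional representation of the small Ree groups

In characteristic 3 the short root vectors and `h_a` span an ideal of the Lie algebra of type `G₂`; it is a
coordinate subspace of the adjoint module, invariant under every root element.
-/

set_option autoImplicit false
set_option maxRecDepth 100000

namespace Cfsg.Agent.Lib.Helper8
open Cfsg.Lie Matrix Cfsg.Agent.Lib.Helper23 Cfsg.Agent.Lib.Helper45 Cfsg.Agent.Lib.Helper22

/-- short roots. -/
def g2short (s : ℕ) : Bool := s == 2 || s == 3 || s == 4 || s == 7 || s == 8 || s == 9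

/-- the coordinates of the short ideal. -/
def inI : chevG2.Idx → Bool
  | Sum.inl i => i.val == 0
  | Sum.inr s => g2short s.val

theorem g2_f1 : ∀ r s : Fin chevG2.nroots, g2short s.val = true → s.val = chevG2.negIdx.getD r.val 0 →
    g2short r.val = true ∧ (3 : ℤ) ∣ (chevG2.coroot.getD r.val #[]).getD 1 0 := by decide +kernel

theorem g2_f2 : ∀ r : Fin chevG2.nroots, g2short r.val = false →
    (3 : ℤ) ∣ (chevG2.cartanSR.getD 0 #[]).getD r.val 0 := by decide +kernel

theorem g2_f3 : ∀ r s u : Fin chevG2.nroots, g2short s.val = true → g2short u.val = false →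
    ∀ km ∈ chevG2.chainCoeff r.val s.val u.val, (3 : ℤ) ∣ km.2 := by decide +kernel

section inv
variable {K : Type*} [Field K] [CharP K 3]

theorem cast_eq_zero_of_three_dvd {c : ℤ} (h : (3 : ℤ) ∣ c) : (c : K) = 0 := by
  obtain ⟨d, rfl⟩ := h
  have h3 : (3 : K) = 0 := by
    have := CharP.cast_eq_zero K 3
    exact_mod_cast this
  push_cast
  rw [h3, zero_mul]

theorem xMat_zero (r : Fin chevG2.nroots) (t : K) (row col : chevG2.Idx) (hc : inI col = true)
    (hr : inI row = false) : chevG2.xMat K r t row col = 0 := by
  unfold ChevalleyDatum.xMat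
  rw [Matrix.of_apply]
  rcases col with i | s
  · have hi : i.val = 0 := by simpa [inI] using hc
    rcases row with i' | u
    · have hi' : i'.val ≠ 0 := by simpa [inI] using hr
      have : i' ≠ i := fun h => hi' (by rw [h, hi])
      simp [this]
    · have hu : g2short u.val = false := hr
      by_cases hur : u = r
      · subst hur
        simp only [if_true]
        rw [hi, cast_eq_zero_of_three_dvd (g2_f2 u hu)]
        simp
      · simp [hur]
  · have hs : g2short s.val = true := hc
    by_cases hsr : s = r
    · subst hsr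
      simp only [if_true]
      rcases row with i' | u
      · rfl
      · have hu : g2short u.val = false := hr
        have : u ≠ s := by
          rintro rfl
          rw [hs] at hu
          exact Bool.noConfusion hu
        simp [this]
    · simp only [if_neg hsr]
      by_cases hneg : s.val = chevG2.negIdx.getD r.val 0
      · simp only [if_pos hneg]
        obtain ⟨hrs, h3⟩ := g2_f1 r s hs hneg
        rcases row with i' | u
        · have hi' : i'.val ≠ 0 := by simpa [inI] using hr
          have hi1 : i'.val = 1 := by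
            have : i'.val < 2 := i'.isLt
            omega
          simp only [hi1]
          rw [cast_eq_zero_of_three_dvd h3, zero_mul]
        · have hu : g2short u.val = false := hr
          have h1 : u ≠ s := by
            rintro rfl
            rw [hs] at hu
            exact Bool.noConfusion hu
          have h2 : u ≠ r := by
            rintro rfl
            rw [hrs] at hu
            exact Bool.noConfusion hu
          simp [h1, h2]
      · simp only [if_neg hneg]
        rcases row with i' | u
        · rfl
        · have hu : g2short u.val = false := hr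
          have h1 : u ≠ s := by
            rintro rfl
            rw [hs] at hu
            exact Bool.noConfusion hu
          simp only [if_neg h1, zero_add]
          apply List.sum_eq_zero
          intro x hx
          obtain ⟨km, hkm, rfl⟩ := List.mem_map.1 hx
          rw [cast_eq_zero_of_three_dvd (g2_f3 r s u hs hu km hkm), zero_mul]

end inv

section blk
variable {K : Type*} [Field K]

/-- matrices preserving the coordinate subspace `I`. -/
def IsBT (g : Matrix chevG2.Idx chevG2.Idx K) : Prop :=
  ∀ row col, inI col = true → inI row = false → g row col = 0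

theorem IsBT.mul {g h : Matrix chevG2.Idx chevG2.Idx K} (hg : IsBT g) (hh : IsBT h) : IsBT (g * h) := by
  intro row col hc hr
  rw [Matrix.mul_apply]
  apply Finset.sum_eq_zero
  intro k _
  by_cases hk : inI k = true
  · rw [hg row k hk hr, zero_mul]
  · rw [hh k col hc (by simpa using hk), mul_zero]

theorem IsBT.one : IsBT (1 : Matrix chevG2.Idx chevG2.Idx K) := by
  intro row col hc hr
  rw [Matrix.one_apply_ne]
  rintro rfl
  rw [hc] at hr
  exact Bool.noConfusion hr

/-- the index set of the ideal. -/
abbrev I7 : Type := {i : chevG2.Idx // inI i = true}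

/-- the diagonal block. -/
def blk (g : Matrix chevG2.Idx chevG2.Idx K) : Matrix I7 I7 K := g.submatrix Subtype.val Subtype.val

theorem blk_mul (g : Matrix chevG2.Idx chevG2.Idx K) {h : Matrix chevG2.Idx chevG2.Idx K} (hh : IsBT h) :
    blk (g * h) = blk g * blk h := by
  ext a b
  simp only [blk, Matrix.submatrix_apply, Matrix.mul_apply]
  rw [← Finset.sum_subtype (Finset.univ.filter fun k => inI k = true) (by simp)
    (fun k => g a.val k * h k b.val)]
  symm
  apply Finset.sum_filter_of_ne
  intro k _ hne
  by_contra hk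
  exact hne (by rw [hh k b.val b.2 (by simpa using hk), mul_zero])

theorem blk_one : blk (1 : Matrix chevG2.Idx chevG2.Idx K) = 1 := by
  ext a b
  simp [blk, Matrix.one_apply, Subtype.ext_iff]

/-- the group of invertible matrices preserving the ideal. -/
def BT (K : Type*) [Field K] : Subgroup (GL chevG2.Idx K) where
  carrier := {g | IsBT (g : Matrix chevG2.Idx chevG2.Idx K) ∧
    IsBT ((g⁻¹ : GL chevG2.Idx K) : Matrix chevG2.Idx chevG2.Idx K)}
  mul_mem' := by
    rintro a b ⟨h1, h2⟩ ⟨h3, h4⟩
    refine ⟨by rw [Units.val_mul]; exact h1.mul h3, by rw [_root_.mul_inv_rev, Units.val_mul]; exact h4.mul h2⟩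
  one_mem' := ⟨by rw [Units.val_one]; exact IsBT.one, by rw [inv_one, Units.val_one]; exact IsBT.one⟩
  inv_mem' := by
    rintro a ⟨h1, h2⟩
    exact ⟨h2, by rw [inv_inv]; exact h1⟩

/-- the action on the ideal. -/
def blkHom (K : Type*) [Field K] : BT K →* GL I7 K where
  toFun g := ⟨blk ((g : GL chevG2.Idx K) : Matrix chevG2.Idx chevG2.Idx K),
    blk (((g : GL chevG2.Idx K)⁻¹ : GL chevG2.Idx K) : Matrix chevG2.Idx chevG2.Idx K),
    by rw [← blk_mul _ g.2.2, ← Units.val_mul, mul_inv_cancel, Units.val_one, blk_one],
    by rw [← blk_mul _ g.2.1, ← Units.val_mul, inv_mul_cancel, Units.val_one, blk_one]⟩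
  map_one' := by
    apply Units.ext
    exact blk_one
  map_mul' a b := by
    apply Units.ext
    exact blk_mul _ b.2.1

theorem card_I7 : Fintype.card I7 = 7 := by decide +kernel

end blk

section main
variable {K : Type*} [Field K] [CharP K 3]

theorem x_isBT (r : ℕ) (t : K) : IsBT (chevG2.x K r t) := by
  unfold ChevalleyDatum.x
  split_ifs with h
  · exact fun row col hc hr => xMat_zero ⟨r, h⟩ t row col hc hr
  · exact IsBT.one

theorem X_mem_BT (hA : AddFact chevG2 K) (r : ℕ) (t : K) : hA.X r t ∈ BT K :=
  ⟨x_isBT r t, by rw [hA.X_inv]; exact x_isBT r (-t)⟩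

theorem W_mem_BT (hA : AddFact chevG2 K) (w : List (ℕ × K)) : hA.W w ∈ BT K := by
  apply Subgroup.list_prod_mem
  intro x hx
  obtain ⟨p, _, rfl⟩ := List.mem_map.1 hx
  exact X_mem_BT hA _ _

theorem twistedG2_le_BT (hA : AddFact chevG2 K) (m : ℕ) : twistedG2 K (3 ^ m) ≤ BT K := by
  rw [twistedG2_eq hA m, Subgroup.closure_le]
  rintro g (⟨t, u, v, rfl⟩ | ⟨t, u, v, rfl⟩) <;> exact W_mem_BT hA _

/-- the 7-dimensional representation. -/
noncomputable def reeRho (hA : AddFact chevG2 K) (m : ℕ) : ↥(twistedG2 K (3 ^ m)) →* GL (Fin 7) K :=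
  ((Units.mapEquiv (Matrix.reindexAlgEquiv K K (Fintype.equivFinOfCardEq card_I7)).toMulEquiv).toMonoidHom.comp
    (blkHom K)).comp (Subgroup.inclusion (twistedG2_le_BT hA m))

theorem reeRho_eq_one_iff (hA : AddFact chevG2 K) (m : ℕ) (g : ↥(twistedG2 K (3 ^ m))) :
    reeRho hA m g = 1 ↔ blk ((g : GL chevG2.Idx K) : Matrix chevG2.Idx chevG2.Idx K) = 1 := by
  unfold reeRho
  rw [MonoidHom.comp_apply, MonoidHom.comp_apply]
  constructor
  · intro h
    have h1 : blkHom K (Subgroup.inclusion (twistedG2_le_BT hA m) g) = 1 := by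
      apply (Units.mapEquiv (Matrix.reindexAlgEquiv K K (Fintype.equivFinOfCardEq card_I7)).toMulEquiv).injective
      rw [map_one]
      exact h
    exact congrArg Units.val h1
  · intro h
    have h1 : blkHom K (Subgroup.inclusion (twistedG2_le_BT hA m) g) = 1 := Units.ext h
    rw [h1, map_one]

end main

section inj
variable {K : Type*} [Field K] [CharP K 3] [Fintype K] {m : ℕ} (hK : Fintype.card K = 3 ^ (2 * m + 1))
  (b : Bundle chevG2 K) (α : ↥(chevG2.group K) ≃* ↥(chevG2.group K))
  (hα : ∀ r < 12, ∀ t : K,
    (α ⟨b.hA.X r t, b.hA.X_mem_group r t⟩ : GL chevG2.Idx K) = b.hA.X (isoRhoG2 r) (t ^ isoLamG2 r))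

include hK α hα in
theorem reeRho_injective (hm : 1 ≤ m) : Function.Injective (reeRho b.hA m) := by
  have hs := (ree_simple hK b α hα hm).1
  rw [← MonoidHom.ker_eq_bot_iff]
  rcases (MonoidHom.normal_ker (reeRho b.hA m)).eq_bot_or_eq_top with h | h
  · exact h
  · exfalso
    have hj : (⟨reeH b.hA m (-1), reeH_mem hK b.hA (by simp)⟩ : ↥(twistedG2 K (3 ^ m))) ∈
        (reeRho b.hA m).ker := by rw [h]; trivial
    rw [MonoidHom.mem_ker, reeRho_eq_one_iff] at hj
    have h1 := congrFun (congrFun hj ⟨Sum.inr ⟨7, by decide⟩, by decide⟩) ⟨Sum.inr ⟨7, by decide⟩, by decide⟩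
    simp only [blk, Matrix.submatrix_apply, Matrix.one_apply_eq] at h1
    unfold reeH at h1
    rw [map_neg, map_one, coe_hh b.hA (by simp) (by simp)] at h1
    have e1 : chevG2.pairing 7 7 = 2 := by decide +kernel
    have e2 : chevG2.pairing 6 7 = -1 := by decide +kernel
    simp only [dg, Matrix.diagonal_apply_eq, Sum.elim_inr, hhChi, e1, e2] at h1
    have h3 : (3 : K) = 0 := three_eq_zero
    have h2 : (-1 : K) = 1 := by
      have e3 : ((-1 : K) ^ (2 : ℤ)) * (-1 : K) ^ (-1 : ℤ) = -1 := by norm_num
      rw [← e3]; exact h1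
    have : (1 : K) = 0 := by linear_combination h3 + h2
    exact one_ne_zero this

end inj

end Cfsg.Agent.Lib.Helper8
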