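import Cfsg.Agent.Lib.Helper8.SzTI

set_option autoImplicit false
open scoped Pointwise MatrixGroups

namespace Cfsg.Agent.Lib.Helper8

/-- an element of odd order normalising `U`, where `|N(U):U|` divides `4`, lies in `U` -/
lemma odd_mem_of_normalizer {G : Type*} [Group G] [Finite G] {U : Subgroup G}
    (hN : Nat.card (Subgroup.normalizer (U : Set G)) = 2 * Nat.card U ∨
      Nat.card (Subgroup.normalizer (U : Set G)) = 4 * Nat.card U) {g : G}
    (hg : g ∈ Subgroup.normalizer (U : Set G)) (hodd : ¬ 2 ∣ orderOf g) : g ∈ U := by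
  have hle : U ≤ Subgroup.normalizer (U : Set G) := Subgroup.le_normalizer
  have h1 := Subgroup.card_mul_index (U.subgroupOf (Subgroup.normalizer (U : Set G)))
  rw [Nat.card_congr (Subgroup.subgroupOfEquivOfLe hle).toEquiv] at h1
  have hpos : 0 < Nat.card U := Nat.card_pos
  have h2 := Subgroup.pow_index_mem (U.subgroupOf (Subgroup.normalizer (U : Set G))) ⟨g, hg⟩
  have h4 : g ^ 4 ∈ U := by
    rcases hN with hN | hN
    · have hi : (U.subgroupOf (Subgroup.normalizer (U : Set G))).index = 2 := by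
        apply Nat.eq_of_mul_eq_mul_left hpos
        rw [h1, hN]; ring
      rw [hi] at h2
      have h3 : g ^ 2 ∈ U := h2
      have : g ^ 4 = g ^ 2 * g ^ 2 := by rw [← pow_add]
      rw [this]; exact mul_mem h3 h3
    · have hi : (U.subgroupOf (Subgroup.normalizer (U : Set G))).index = 4 := by
        apply Nat.eq_of_mul_eq_mul_left hpos
        rw [h1, hN]; ring
      rw [hi] at h2
      exact h2
  have hcop : Nat.Coprime 4 (orderOf g) := by
    rw [show (4 : ℕ) = 2 ^ 2 from rfl]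
    apply Nat.Coprime.pow_left
    exact (Nat.Prime.coprime_iff_not_dvd Nat.prime_two).2 hodd
  obtain ⟨j, hj⟩ := exists_pow_eq_self_of_coprime hcop
  rw [← hj]; exact pow_mem h4 j

lemma mem_of_sq_mem {G : Type*} [Group G] {H : Subgroup G} {g : G} (hodd : ¬ 2 ∣ orderOf g)
    (h : g * g ∈ H) : g ∈ H := by
  have hcop : Nat.Coprime 2 (orderOf g) := (Nat.Prime.coprime_iff_not_dvd Nat.prime_two).2 hodd
  obtain ⟨j, hj⟩ := exists_pow_eq_self_of_coprime hcop
  rw [← hj, pow_two]; exact pow_mem h j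

section

variable {F : Type*} [Field F] [CharP F 2] [Fintype F] {m : ℕ}
  (hF : Fintype.card F = 2 ^ (2 * m + 1)) (hm : 1 ≤ m)

lemma odd_of_mem_set {m n : ℕ} (hm : 1 ≤ m) (hn : n ∈ ({2 ^ (2 * m + 1) - 1,
    2 ^ (2 * m + 1) + 2 ^ (m + 1) + 1, 2 ^ (2 * m + 1) - 2 ^ (m + 1) + 1} : Set ℕ)) : ¬ 2 ∣ n := by
  have hq := eight_le_q hm
  rcases hn with rfl | rfl | rfl
  · intro h
    have : 2 ∣ 2 ^ (2 * m + 1) := dvd_pow_self 2 (by omega)
    omega
  · exact fun h => odd_q2 m (h.trans (plus_dvd m hm))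
  · exact fun h => odd_q2 m (h.trans (minus_dvd m hm))

include hF hm in
/-- every cyclic subgroup of order `q - 1` or `q ± 2r + 1` is a maximal torus -/
theorem torus_classify {U : Subgroup (Cfsg.Sz F m)} (hc : IsCyclic U)
    (hcard : Nat.card U ∈ ({2 ^ (2 * m + 1) - 1, 2 ^ (2 * m + 1) + 2 ^ (m + 1) + 1,
      2 ^ (2 * m + 1) - 2 ^ (m + 1) + 1} : Set ℕ)) :
    IsTor U ∧ (Nat.card (Subgroup.normalizer (U : Set (Cfsg.Sz F m))) = 2 * Nat.card U ∨
      Nat.card (Subgroup.normalizer (U : Set (Cfsg.Sz F m))) = 4 * Nat.card U) := by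
  have hq := eight_le_q hm
  have hlt := R_lt_q hm
  have hR0 : 0 < 2 ^ m := by positivity
  have hne : U ≠ ⊥ := by
    rintro rfl
    rw [Subgroup.card_bot] at hcard
    simp only [Set.mem_insert_iff, Set.mem_singleton_iff] at hcard
    rcases hcard with h | h | h <;> omega
  obtain ⟨⟨u, hu⟩, hu1'⟩ := (Subgroup.ne_bot_iff_exists_ne_one).1 hne
  have hu1 : u ≠ 1 := fun e => hu1' (Subtype.ext e)
  have huniq : ∀ y₂ : Subgroup (Cfsg.Sz F m), _ → U = y₂ := fun y₂ h₂ =>
    (Sz_partition hF hm u hu1).unique (y₁ := U) (y₂ := y₂) ⟨Or.inr ⟨hc, hcard⟩, hu⟩ h₂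
  rcases trichotomy hF hm hu1 with ⟨x, a, b, h, e⟩ | ⟨x, k, hk, e⟩ | hf
  · exfalso
    have hu' : u = x⁻¹ * tG hF a b * x⁻¹⁻¹ := by rw [← e]; group
    have h4 : u ^ 4 = 1 := by rw [hu', conj_pow, tG_pow_four]; group
    have h5 : orderOf u ∣ Nat.card U := by
      have := orderOf_dvd_natCard (⟨u, hu⟩ : U)
      rwa [Subgroup.orderOf_mk] at this
    have h6 : orderOf u ∣ 2 ^ 2 := orderOf_dvd_of_pow_eq_one h4
    obtain ⟨j, _, hj⟩ := (Nat.dvd_prime_pow Nat.prime_two).1 h6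
    rcases Nat.eq_zero_or_pos j with rfl | hj0
    · rw [pow_zero] at hj
      exact hu1 (orderOf_eq_one_iff.1 hj)
    · exact odd_of_mem_set hm hcard ((hj ▸ dvd_pow_self 2 hj0.ne').trans h5)
  · have hC := cent_of_conj_dG hF hm hk e
    have hcardC : Nat.card (Subgroup.centralizer ({u} : Set (Cfsg.Sz F m))) = 2 ^ (2 * m + 1) - 1 := by
      rw [hC, card_map_conj, card_DG]
    have hcycC : IsCyclic (Subgroup.centralizer ({u} : Set (Cfsg.Sz F m))) :=
      isCyclic_of_conj_le (K := DG hF) x (cent_conj_dG hF hm hk e)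
    have hU := huniq (Subgroup.centralizer ({u} : Set (Cfsg.Sz F m)))
      ⟨Or.inr ⟨hcycC, by rw [hcardC]; simp⟩, self_mem_centralizer u⟩
    rw [hU, hC]
    refine ⟨(isTor_DG hF hm).map_conj _, Or.inl ?_⟩
    rw [← Subgroup.map_equiv_normalizer_eq, card_map_conj, card_map_conj, card_normalizer_DG hF hm,
      card_DG]
  · have hcycC := cent_cyclic_fpf hF hm hf
    obtain ⟨hcardC, hn⟩ := card_cent_fpf hF hm hf
    have hU := huniq (Subgroup.centralizer ({u} : Set (Cfsg.Sz F m)))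
      ⟨Or.inr ⟨hcycC, by rcases hcardC with h | h <;> rw [h] <;> simp⟩, self_mem_centralizer u⟩
    rw [hU]
    exact ⟨isTor_of_fpf hF hm hf, Or.inr hn⟩

include hF hm in
/-- the normaliser of a Sylow 2-subgroup is a point stabiliser -/
lemma normalizer_sylow (P : Sylow 2 (Cfsg.Sz F m)) :
    ∃ p ∈ Cfsg.suzukiOvoid F m, ∀ y : Cfsg.Sz F m,
      y ∈ Subgroup.normalizer ((P : Subgroup (Cfsg.Sz F m)) : Set (Cfsg.Sz F m)) ↔ y • p = p := by
  obtain ⟨x, hx⟩ := sylow_eq_conj hF hm P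
  refine ⟨x • Cfsg.suzukiPointInfinity F, smul_mem_ovoid x (ptInf_mem m), fun y => ?_⟩
  rw [hx, ← Subgroup.map_equiv_normalizer_eq, normalizer_QG hF hm, mem_map_conj,
    MulAction.mem_stabilizer_iff, mul_smul, mul_smul, inv_smul_eq_iff]

end

end Cfsg.Agent.Lib.Helper8
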