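import Cfsg.Agent.Lib.Helper8.SzSubConj
import Cfsg.Prelude.Def_Transfer

set_option autoImplicit false
open scoped Pointwise MatrixGroups

namespace Cfsg.Agent.Lib.Helper8

section

variable {F : Type*} [Field F] [CharP F 2] [Fintype F] {m : ℕ}
  (hF : Fintype.card F = 2 ^ (2 * m + 1)) (hm : 1 ≤ m)

/-- the central translations with parameter in an additive subgroup -/
def ZB (B : AddSubgroup F) : Subgroup (Cfsg.Sz F m) where
  carrier := {g | ∃ b ∈ B, g = tG hF 0 b}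
  mul_mem' := by
    rintro _ _ ⟨b, hb, rfl⟩ ⟨b', hb', rfl⟩
    refine ⟨b + b', B.add_mem hb hb', ?_⟩
    rw [tG_mul]; simp
  one_mem' := ⟨0, B.zero_mem, (tG_zero hF).symm⟩
  inv_mem' := by
    rintro _ ⟨b, hb, rfl⟩
    refine ⟨b, hb, ?_⟩
    rw [tG_inv]; simp

lemma card_ZB (B : AddSubgroup F) : Nat.card (ZB hF B) = Nat.card B := by
  symm
  apply Nat.card_eq_of_bijective (fun b : B => (⟨tG hF 0 b, b, b.2, rfl⟩ : ZB hF B))
  constructor
  · intro b b' e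
    exact Subtype.ext (tG_injective hF (congrArg Subtype.val e)).2
  · rintro ⟨_, b, hb, rfl⟩
    exact ⟨⟨b, hb⟩, rfl⟩

lemma borel_conj_central (a c : F) (l : Fˣ) (b : F) :
    tG hF a c * dG hF l * tG hF 0 b * (tG hF a c * dG hF l)⁻¹ =
      tG hF 0 ((l : F) * th m (l : F) * b) := by
  have e : tG hF a c * dG hF l * tG hF 0 b * (tG hF a c * dG hF l)⁻¹ =
      tG hF a c * (dG hF l * tG hF 0 b * (dG hF l)⁻¹) * (tG hF a c)⁻¹ := by group
  rw [e, dG_conj_tG, tG_conj_tG]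
  simp

include hm in
lemma ZB_subfield_TI (K₁ : Subfield F) (x y : Cfsg.Sz F m)
    (hy : y ∈ ZB hF K₁.toAddSubgroup) (hy1 : y ≠ 1) (hxy : x * y * x⁻¹ ∈ ZB hF K₁.toAddSubgroup) :
    x ∈ Subgroup.normalizer (ZB hF K₁.toAddSubgroup : Set (Cfsg.Sz F m)) := by
  obtain ⟨b, hb, rfl⟩ := hy
  obtain ⟨b', hb', e⟩ := hxy
  have hb0 : b ≠ 0 := by
    rintro rfl
    exact hy1 (tG_zero hF)
  have hinf := fix_inf_of_conj hF (fun h => hb0 h.2) e
  obtain ⟨a, c, l, rfl⟩ := nf_inf hF hm hinf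
  rw [borel_conj_central] at e
  have hψ : (l : F) * th m (l : F) ∈ K₁ := by
    have h1 := (tG_injective hF e).2
    have : (l : F) * th m (l : F) = b' / b := by
      rw [← h1, mul_div_assoc, div_self hb0, mul_one]
    rw [this]
    exact div_mem hb' hb
  have hψ0 : (l : F) * th m (l : F) ≠ 0 :=
    mul_ne_zero l.ne_zero (fun e => l.ne_zero (th_eq_zero e))
  rw [Subgroup.mem_normalizer_iff]
  intro h
  constructor
  · rintro ⟨β, hβ, rfl⟩
    rw [borel_conj_central]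
    exact ⟨_, K₁.mul_mem hψ hβ, rfl⟩
  · rintro ⟨β, hβ, e2⟩
    refine ⟨((l : F) * th m (l : F))⁻¹ * β, K₁.mul_mem (K₁.inv_mem hψ) hβ, ?_⟩
    have e3 := borel_conj_central hF a c l (((l : F) * th m (l : F))⁻¹ * β)
    rw [mul_inv_cancel_left₀ hψ0, ← e2] at e3
    exact (mul_left_cancel (mul_right_cancel e3)).symm

include hF in
lemma psi_surj (a : F) : ∃ b : F, b * th m b = a :=
  (Finite.injective_iff_surjective (f := fun y : F => y * th m y)).1 (fun _ _ e => psi_inj hF e) a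

/-- a TI subgroup of central translations is a coset of a subfield -/
lemma card_of_TI (E : Subgroup (Cfsg.Sz F m)) (hE : ∀ y ∈ E, ∃ b, y = tG hF 0 b)
    (hne : E ≠ ⊥)
    (hTI : ∀ x y : Cfsg.Sz F m, y ∈ E → y ≠ 1 → x * y * x⁻¹ ∈ E →
      x ∈ Subgroup.normalizer (E : Set (Cfsg.Sz F m))) :
    Nat.card E = Nat.card (stabField (BM hF E)) := by
  obtain ⟨⟨y₀, hy₀⟩, hy₀1⟩ := (Subgroup.ne_bot_iff_exists_ne_one).1 hne
  obtain ⟨b₀, rfl⟩ := hE y₀ hy₀
  have hb₀ : b₀ ≠ 0 := by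
    rintro rfl
    exact hy₀1 (Subtype.ext (tG_zero hF))
  have hdiv : ∀ b, tG hF 0 b ∈ E → b / b₀ ∈ stabField (BM hF E) := by
    intro b hb
    by_cases hb0 : b = 0
    · rw [hb0, zero_div]; exact zero_mem _
    · obtain ⟨l, hl⟩ := psi_surj hF (b / b₀)
      have hl0 : l ≠ 0 := by
        rintro rfl
        rw [zero_mul] at hl
        exact div_ne_zero hb0 hb₀ hl.symm
      have hconj : ∀ β, dG hF (Units.mk0 l hl0) * tG hF 0 β * (dG hF (Units.mk0 l hl0))⁻¹ =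
          tG hF 0 (b / b₀ * β) := by
        intro β
        rw [dG_conj_tG, mul_zero, Units.val_mk0, hl]
      have hn := hTI (dG hF (Units.mk0 l hl0)) (tG hF 0 b₀) hy₀ (tG_zero_ne_one hF hb₀)
        (by rw [hconj, div_mul_cancel₀ _ hb₀]; exact hb)
      intro β hβ
      have := (Subgroup.mem_normalizer_iff.1 hn (tG hF 0 β)).1 hβ
      rw [hconj] at this
      exact this
  symm
  apply Nat.card_eq_of_bijective
    (fun c : stabField (BM hF E) => (⟨tG hF 0 (c * b₀), c.2 b₀ hy₀⟩ : E))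
  constructor
  · intro c c' e
    exact Subtype.ext (mul_right_cancel₀ hb₀ (tG_injective hF (congrArg Subtype.val e)).2)
  · rintro ⟨y, hy⟩
    obtain ⟨b, rfl⟩ := hE y hy
    refine ⟨⟨b / b₀, hdiv b hy⟩, ?_⟩
    apply Subtype.ext
    show tG hF 0 (b / b₀ * b₀) = tG hF 0 b
    rw [div_mul_cancel₀ _ hb₀]

include hF hm in
theorem Sz_TI (n : ℕ) (hn : 2 ≤ n) :
    (∃ E : Subgroup (Cfsg.Sz F m), Cfsg.IsElementaryAbelian 2 E ∧ Nat.card E = 2 ^ n ∧
      ∀ x : Cfsg.Sz F m, E ⊓ E.map (MulAut.conj x).toMonoidHom ≠ ⊥ →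
        x ∈ Subgroup.normalizer (E : Set (Cfsg.Sz F m))) ↔ n ∣ 2 * m + 1 := by
  have hF' : Nat.card F = 2 ^ (2 * m + 1) := by rw [Nat.card_eq_fintype_card, hF]
  constructor
  · rintro ⟨E, ⟨hcomm, hexp⟩, hcard, hTI⟩
    have hne : E ≠ ⊥ := by
      rintro rfl
      rw [Subgroup.card_bot] at hcard
      have : 2 ^ 2 ≤ 2 ^ n := Nat.pow_le_pow_right (by norm_num) hn
      omega
    obtain ⟨⟨z, hz⟩, hz1'⟩ := (Subgroup.ne_bot_iff_exists_ne_one).1 hne
    have hz1 : z ≠ 1 := fun e => hz1' (Subtype.ext e)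
    have hsq : ∀ y ∈ E, y * y = 1 := fun y hy => by rw [← pow_two]; exact hexp y hy
    obtain ⟨p, hp, hzp⟩ := inv_has_fix hF hm hz1 (hsq z hz)
    obtain ⟨x₁, hx₁⟩ := exists_to_inf hF hp
    have hfix : ∀ y ∈ E, y • p = p := by
      intro y hy
      apply inv_fix_unique hF hm hz1 (hsq z hz) (smul_mem_ovoid _ hp) hp _ hzp
      have : z * y = y * z := congrArg Subtype.val (hcomm.is_comm.comm ⟨z, hz⟩ ⟨y, hy⟩)
      rw [← mul_smul, this, mul_smul, hzp]
    have hE' : ∀ y ∈ E.map (MulAut.conj x₁).toMonoidHom, ∃ b, y = tG hF 0 b := by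
      rintro _ ⟨y, hy, rfl⟩
      show ∃ b, x₁ * y * x₁⁻¹ = tG hF 0 b
      by_cases hy1 : y = 1
      · exact ⟨0, by rw [hy1, tG_zero]; group⟩
      · obtain ⟨b, -, e⟩ := inv_fix_inf hF hm (z := x₁ * y * x₁⁻¹) (conj_ne_one hy1)
          (by
            calc _ = x₁ * (y * y) * x₁⁻¹ := by group
              _ = 1 := by rw [hsq y hy]; group)
          (by rw [mul_smul, mul_smul, ← hx₁, inv_smul_smul, hfix y hy])
        exact ⟨b, e⟩
    have hne' : E.map (MulAut.conj x₁).toMonoidHom ≠ ⊥ := by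
      intro e
      have : x₁ * z * x₁⁻¹ ∈ E.map (MulAut.conj x₁).toMonoidHom := conj_mem_map_conj hz
      rw [e, Subgroup.mem_bot] at this
      exact conj_ne_one hz1 this
    have hTI' : ∀ x y : Cfsg.Sz F m, y ∈ E.map (MulAut.conj x₁).toMonoidHom → y ≠ 1 →
        x * y * x⁻¹ ∈ E.map (MulAut.conj x₁).toMonoidHom →
        x ∈ Subgroup.normalizer ((E.map (MulAut.conj x₁).toMonoidHom : Subgroup (Cfsg.Sz F m)) :
          Set (Cfsg.Sz F m)) := by
      intro x y hy hy1 hxy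
      rw [mem_map_conj] at hy hxy
      rw [← Subgroup.map_equiv_normalizer_eq, mem_map_conj]
      apply hTI
      intro e
      have hmem : x₁⁻¹ * (x * y * x⁻¹) * x₁ ∈ E ⊓ E.map (MulAut.conj (x₁⁻¹ * x * x₁)).toMonoidHom := by
        refine Subgroup.mem_inf.2 ⟨hxy, ?_⟩
        rw [mem_map_conj]
        have : (x₁⁻¹ * x * x₁)⁻¹ * (x₁⁻¹ * (x * y * x⁻¹) * x₁) * (x₁⁻¹ * x * x₁) = x₁⁻¹ * y * x₁ := by
          group
        rw [this]; exact hy
      rw [e, Subgroup.mem_bot] at hmem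
      have h2 : x₁⁻¹ * (x * y * x⁻¹) * x₁ = (x₁⁻¹ * x) * y * (x₁⁻¹ * x)⁻¹ := by group
      rw [h2] at hmem
      exact conj_ne_one hy1 hmem
    have hc := card_of_TI hF _ hE' hne' hTI'
    rw [card_map_conj, hcard] at hc
    obtain ⟨e, he, hdiv⟩ := card_subfield (stabField (BM hF (E.map (MulAut.conj x₁).toMonoidHom))) hF'
    rw [← hc] at he
    rw [Nat.pow_right_injective (le_refl 2) he]
    exact hdiv
  · intro hdiv
    obtain ⟨K₁, hK₁⟩ := exists_subfield hF' hdiv (by omega)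
    refine ⟨ZB hF K₁.toAddSubgroup, ⟨⟨⟨?_⟩⟩, ?_⟩, ?_, ?_⟩
    · rintro ⟨_, b, hb, rfl⟩ ⟨_, b', hb', rfl⟩
      apply Subtype.ext
      show tG hF 0 b * tG hF 0 b' = tG hF 0 b' * tG hF 0 b
      rw [tG_mul, tG_mul]
      congr 1
      simp only [map_zero, zero_mul, add_zero]
      ring
    · rintro _ ⟨b, hb, rfl⟩
      rw [pow_two, tG_zero_sq]
    · rw [card_ZB, ← hK₁]; rfl
    · intro x hx
      obtain ⟨⟨y, hyy⟩, hy1⟩ := (Subgroup.ne_bot_iff_exists_ne_one).1 hx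
      obtain ⟨hy, hy'⟩ := Subgroup.mem_inf.1 hyy
      rw [mem_map_conj] at hy'
      have hy1' : y ≠ 1 := fun e => hy1 (Subtype.ext e)
      apply ZB_subfield_TI hF hm K₁ x (x⁻¹ * y * x) hy'
      · have := conj_ne_one (x := x⁻¹) hy1'
        rwa [inv_inv] at this
      · have : x * (x⁻¹ * y * x) * x⁻¹ = y := by group
        rw [this]; exact hy

end

end Cfsg.Agent.Lib.Helper8
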